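import Groth.Agent.Lib.AdmOpen4.TwoSided
import Groth.Agent.Lib.HMNum19.Unique

/-!
# Small tools for compactifications
-/

set_option autoImplicit false
set_option backward.isDefEq.respectTransparency false
universe u

open CategoryTheory CategoryTheory.Limits AlgebraicGeometry TopologicalSpace

namespace Groth.Agent.Nagata4

theorem ext_dom {O G Y S : Scheme.{u}} (t : O ⟶ G) [IsSchemeTheoreticallyDominant t] (sY : Y ⟶ S) [IsSeparated sY]
    (f g : G ⟶ Y) (hS : f ≫ sY = g ≫ sY) (h : t ≫ f = t ≫ g) : f = g := by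
  haveI : IsSeparated (Over.mk sY).hom := ‹IsSeparated sY›
  let G' : Over S := Over.mk (f ≫ sY)
  let O' : Over S := Over.mk (t ≫ f ≫ sY)
  let j : O' ⟶ G' := Over.homMk t rfl
  haveI : IsSchemeTheoreticallyDominant j.left := ‹_›
  exact congrArg (fun φ : G' ⟶ Over.mk sY => φ.left) (HMNum19.ext_of_isSchemeTheoreticallyDominant j
    (f := (Over.homMk f rfl : G' ⟶ Over.mk sY)) (g := (Over.homMk g hS.symm : G' ⟶ Over.mk sY)) (Over.OverMorphism.ext h))

theorem isFiniteTypeIdeal_of_noetherian {X : Scheme.{u}} [IsLocallyNoetherian X] (I : X.IdealSheafData) :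
    BlowUp.IsFiniteTypeIdeal I := fun U =>
  haveI : IsNoetherianRing Γ(X, U.1) := IsLocallyNoetherian.component_noetherian U
  IsNoetherian.noetherian _

/-- A morphism which dominates, restricted into an open containing its image, still dominates. -/
theorem exists_lift_dominant {O G : Scheme.{u}} (t : O ⟶ G) [IsSchemeTheoreticallyDominant t] [QuasiCompact t]
    (Ω : G.Opens) (h : ∀ x, t x ∈ Ω) :
    ∃ t' : O ⟶ (Ω : Scheme.{u}), t' ≫ Ω.ι = t ∧ IsSchemeTheoreticallyDominant t' := by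
  have hr : Set.range (𝟙 O : O ⟶ O) ⊆ Set.range (t ⁻¹ᵁ Ω).ι := fun x _ => by
    rw [Scheme.Opens.range_ι]; exact h x
  haveI : IsSchemeTheoreticallyDominant (t ∣_ Ω) :=
    IsSchemeTheoreticallyDominant.of_isPullback (f := t) (g := Ω.ι) (isPullback_morphismRestrict t Ω).flip
  let l := IsOpenImmersion.lift (t ⁻¹ᵁ Ω).ι (𝟙 O) hr
  haveI : IsIso l := by
    refine ⟨(t ⁻¹ᵁ Ω).ι, IsOpenImmersion.lift_fac _ _ _, ?_⟩
    rw [← cancel_mono (t ⁻¹ᵁ Ω).ι, Category.assoc, IsOpenImmersion.lift_fac]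
    simp
  exact ⟨l ≫ (t ∣_ Ω), by rw [Category.assoc, morphismRestrict_ι, IsOpenImmersion.lift_fac_assoc, Category.id_comp],
    inferInstance⟩

theorem isIso_over {O G Y : Scheme.{u}} [CompactSpace O] [QuasiSeparatedSpace Y] (t : O ⟶ G)
    [IsSchemeTheoreticallyDominant t] (q : G ⟶ Y) [IsSeparated q] (iO : O ⟶ Y) [IsOpenImmersion iO]
    (h : t ≫ q = iO) : IsIso (q ∣_ iO.opensRange) := by
  haveI : CompactSpace iO.opensRange.toScheme := by
    have : IsCompact (iO.opensRange : Set Y) := isCompact_range iO.continuous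
    exact isCompact_iff_compactSpace.1 this
  haveI : IsSchemeTheoreticallyDominant (iO.isoOpensRange.inv ≫ t) := inferInstance
  refine AdmOpen4.isIso_restrict_of_section iO.opensRange q (iO.isoOpensRange.inv ≫ t) ?_
  rw [Category.assoc, h, Iso.inv_comp_eq, Scheme.Hom.isoOpensRange_hom_ι]

/-- An open immersion avoiding the centre lifts to the blow-up as an open immersion. -/
theorem exists_lift {U Y Y' : Scheme.{u}} (k : U ⟶ Y) [IsOpenImmersion k] {K : Y.IdealSheafData} {b : Y' ⟶ Y}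
    (hb : BlowUp.IsBlowUp b K) (h : Disjoint (K.support : Set Y) (k.opensRange : Set Y)) :
    ∃ (k' : U ⟶ Y') (_ : IsOpenImmersion k'), k' ≫ b = k ∧ k'.opensRange = b ⁻¹ᵁ k.opensRange := by
  haveI := EffCartier.isIso_blowUp_restrict hb
  have hle : k.opensRange ≤ EffCartier.cmpl K := fun x hx hxK => Set.disjoint_left.1 h hxK hx
  haveI := AdmBlowUp4.isIso_restrict_of_le' b hle
  let k' : U ⟶ Y' := k.isoOpensRange.hom ≫ inv (b ∣_ k.opensRange) ≫ (b ⁻¹ᵁ k.opensRange).ι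
  refine ⟨k', inferInstance, ?_, ?_⟩
  · simp only [k', Category.assoc]
    rw [← morphismRestrict_ι, IsIso.inv_hom_id_assoc, Scheme.Hom.isoOpensRange_hom_ι]
  · ext1
    show Set.range k' = _
    rw [show k' = (k.isoOpensRange.hom ≫ inv (b ∣_ k.opensRange)) ≫ (b ⁻¹ᵁ k.opensRange).ι from (Category.assoc _ _ _).symm]
    rw [Scheme.Hom.comp_base, TopCat.coe_comp, Set.range_comp,
      Set.range_eq_univ.2 (show Function.Surjective (k.isoOpensRange.hom ≫ inv (b ∣_ k.opensRange)) from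
        (k.isoOpensRange.hom ≫ inv (b ∣_ k.opensRange)).homeomorph.surjective),
      Set.image_univ, Scheme.Opens.range_ι]

theorem dense_blowUp_preimage {Y Y' : Scheme.{u}} {K : Y.IdealSheafData} {b : Y' ⟶ Y} (hb : BlowUp.IsBlowUp b K)
    (O : Y.Opens) (hO : Dense (O : Set Y)) : Dense ((b ⁻¹ᵁ O : Y'.Opens) : Set Y') := by
  haveI := EffCartier.isIso_blowUp_restrict hb
  rw [dense_iff_inter_open]
  intro P hP ⟨x, hx⟩
  obtain ⟨y, hy, hyx⟩ := EffCartier.exists_specializes_cmpl hb.1 x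
  have hyP : y ∈ P := hyx.mem_open hP hx
  have hyV : y ∈ b ⁻¹ᵁ EffCartier.cmpl K := by rw [BlowUp26.preimage_cmpl_eq]; exact hy
  let V := EffCartier.cmpl K
  let P' := ((b ∣_ V) ≫ V.ι) '' ((b ⁻¹ᵁ V).ι ⁻¹' P)
  have hP' : IsOpen P' := ((b ∣_ V) ≫ V.ι).isOpenEmbedding.isOpenMap _ (hP.preimage (b ⁻¹ᵁ V).ι.continuous)
  obtain ⟨_, ⟨z, hzP, rfl⟩, hzO⟩ := hO.inter_open_nonempty P' hP' ⟨_, ⟨y, hyV⟩, hyP, rfl⟩
  refine ⟨(b ⁻¹ᵁ V).ι z, hzP, ?_⟩
  show b ((b ⁻¹ᵁ V).ι z) ∈ O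
  rw [← Scheme.Hom.comp_apply, ← morphismRestrict_ι]
  exact hzO

theorem denseRange_of_dominant {O G : Scheme.{u}} (t : O ⟶ G) [IsSchemeTheoreticallyDominant t] [QuasiCompact t] :
    DenseRange t := by
  haveI : IsDominant t := inferInstance
  exact t.denseRange

theorem dense_preimage_of_mem {O G Y : Scheme.{u}} (t : O ⟶ G) [IsSchemeTheoreticallyDominant t] [QuasiCompact t]
    (f : G ⟶ Y) (W : Y.Opens) (h : ∀ x, f (t x) ∈ W) : Dense ((f ⁻¹ᵁ W : G.Opens) : Set G) :=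
  (denseRange_of_dominant t).mono (by rintro _ ⟨x, rfl⟩; exact h x)

end Groth.Agent.Nagata4
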