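import Groth.Agent.Lib.Nagata4.Residual
import Groth.Agent.Lib.AdmOpen4.Extend
import Mathlib.RingTheory.Nakayama

/-!
# After an admissible blow-up the closure of a closed set avoids a given closed set upstairs
-/

set_option autoImplicit false
set_option backward.isDefEq.respectTransparency false
universe u

open CategoryTheory CategoryTheory.Limits AlgebraicGeometry TopologicalSpace
open scoped nonZeroDivisors

namespace Groth.Agent.Nagata4

variable {X : Scheme.{u}}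

theorem exists_pow_le {a j : X.IdealSheafData} (hj : BlowUp.IsFiniteTypeIdeal j) (Ω : X.affineOpens)
    (h : ∀ x ∈ Ω.1, x ∈ (a.support : Set X) → x ∈ (j.support : Set X)) :
    ∃ m, (j.ideal Ω) ^ m ≤ a.ideal Ω := by
  refine Ideal.exists_pow_le_of_le_radical_of_fg (fun x hx => ?_) (hj Ω)
  letI : Algebra Γ(X, Ω.1) Γ(X, X.basicOpen x) := (X.presheaf.map (homOfLE (X.basicOpen_le x)).op).hom.toAlgebra
  haveI : IsLocalization.Away x Γ(X, X.basicOpen x) := Ω.2.isLocalization_basicOpen x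
  have htop : a.ideal (X.affineBasicOpen x) = ⊤ := AdmOpen4.ideal_eq_top_of_disjoint a _ <| by
    refine Set.disjoint_left.2 fun y hy hyx => ?_
    have hy' := h y (X.basicOpen_le x hyx) hy
    rw [SetLike.mem_coe, Scheme.IdealSheafData.mem_support_iff_of_mem (X.basicOpen_le x hyx),
      Scheme.mem_zeroLocus_iff] at hy'
    exact hy' x hx hyx
  rw [← a.map_ideal_basicOpen Ω x] at htop
  obtain ⟨_, ⟨k, rfl⟩, hk⟩ :=
    (IsLocalization.algebraMap_mem_map_algebraMap_iff (Submonoid.powers x) Γ(X, X.basicOpen x) (a.ideal Ω) 1).1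
      (htop.ge Submodule.mem_top)
  exact ⟨k, by simpa using hk⟩

theorem exists_uniform_pow_le [CompactSpace X] {a j : X.IdealSheafData} (hj : BlowUp.IsFiniteTypeIdeal j)
    (B : Set X) (hB : IsClosed B) (O : X.Opens) (hBO : B ⊆ O)
    (h : ∀ x ∈ O, x ∈ (a.support : Set X) → x ∈ (j.support : Set X)) :
    ∃ m, ∀ x ∈ B, ∃ Ω : X.affineOpens, x ∈ Ω.1 ∧ (j.ideal Ω) ^ m ≤ a.ideal Ω := by
  obtain ⟨t, ht⟩ := hB.isCompact.elim_finite_subcover (fun Ω : {Ω : X.affineOpens // Ω.1 ≤ O} => (Ω.1.1 : Set X))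
    (fun Ω => Ω.1.1.2) (fun x hx => by
      obtain ⟨_, ⟨Ω, hΩ, rfl⟩, hxΩ, hΩO⟩ := X.isBasis_affineOpens.exists_subset_of_mem_open (hBO hx) O.2
      exact Set.mem_iUnion.2 ⟨⟨⟨Ω, hΩ⟩, hΩO⟩, hxΩ⟩)
  choose m hm using fun Ω : t => exists_pow_le hj Ω.1.1 (fun x hx => h x (Ω.1.2 hx))
  refine ⟨Finset.univ.sup m, fun x hx => ?_⟩
  obtain ⟨Ω, hΩ, hxΩ⟩ := Set.mem_iUnion₂.1 (ht hx)
  exact ⟨Ω.1, hxΩ, (Ideal.pow_le_pow_right (Finset.le_sup (Finset.mem_univ ⟨Ω, hΩ⟩))).trans (hm ⟨Ω, hΩ⟩)⟩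

/-- The centre. -/
theorem exists_shrink {Y G : Scheme.{u}} [CompactSpace G] (p : G ⟶ Y) (U : Y.Opens) (A J : Y.IdealSheafData)
    (hA : BlowUp.IsFiniteTypeIdeal A) (hJ : BlowUp.IsFiniteTypeIdeal J) (hJs : (J.support : Set Y) = (U : Set Y)ᶜ)
    (B : Set G) (hB : IsClosed B) (hBA : Disjoint B (closure (p ⁻¹' ((A.support : Set Y) ∩ U)))) :
    ∃ K : Y.IdealSheafData, BlowUp.IsAdmissibleFor U K ∧ ∀ {Y' : Scheme.{u}} (c : Y' ⟶ Y), BlowUp.IsBlowUp c K →
      ∃ L : Set Y', IsClosed L ∧ c ⁻¹' ((A.support : Set Y) ∩ U) ⊆ L ∧ L ⊆ c ⁻¹' (A.support : Set Y) ∧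
        ∀ {D : Scheme.{u}} (r : D ⟶ G) (q : D ⟶ Y'), r ≫ p = q ≫ c →
          Dense (((q ≫ c) ⁻¹ᵁ U : D.Opens) : Set D) → Disjoint (r ⁻¹' B) (q ⁻¹' L) := by
  let O : G.Opens := ⟨(closure (p ⁻¹' ((A.support : Set Y) ∩ U)))ᶜ, isClosed_closure.isOpen_compl⟩
  obtain ⟨m, hm⟩ := exists_uniform_pow_le (a := A.comap p) (j := J.comap p) (EffCartier.isFiniteTypeIdeal_comap hJ p)
    B hB O (fun x hx hx' => Set.disjoint_left.1 hBA hx hx') (fun x hxO hxA => by
      rw [Scheme.IdealSheafData.support_comap] at hxA ⊢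
      show p x ∈ (J.support : Set Y)
      rw [hJs]
      exact fun hxU => hxO (subset_closure ⟨hxA, hxU⟩))
  refine ⟨A ⊔ J ^ (m + 1), ⟨EffCartier.isFiniteTypeIdeal_sup hA fun V => ?_, ?_⟩, fun {Y'} c hc => ?_⟩
  · rw [Scheme.IdealSheafData.ideal_pow, Pi.pow_apply]; exact Ideal.FG.pow (hJ V)
  · refine Disjoint.mono_left (fun x hx => ?_) (show Disjoint (J.support : Set Y) U by rw [hJs]; exact disjoint_compl_left)
    rw [← Scheme.IdealSheafData.support_pow_succ (I := J) (n := m)]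
    exact (Scheme.IdealSheafData.support_antitone le_sup_right) hx
  have hcc := hc.1
  rw [Scheme.IdealSheafData.comap_sup] at hcc
  refine ⟨resid (A.comap c) ((J ^ (m + 1)).comap c), isClosed_resid _ _, ?_, ?_, fun {D} r q hrq hd => ?_⟩
  · rintro y ⟨hyA, hyU⟩
    refine mem_resid (by rw [Scheme.IdealSheafData.support_comap]; exact hyA) ?_
    rw [Scheme.IdealSheafData.support_comap, Scheme.IdealSheafData.support_pow_succ]
    show c y ∉ (J.support : Set Y)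
    rw [hJs]; exact fun h => h hyU
  · intro y hy
    have := resid_subset hy
    rwa [Scheme.IdealSheafData.support_comap] at this
  refine Set.disjoint_left.2 fun z hzB hzL => ?_
  obtain ⟨W, hzW, hW⟩ := exists_le_of_mem_resid hcc hzL
  obtain ⟨Ω, hzΩ, hΩ⟩ := hm (r z) hzB
  obtain ⟨_, ⟨Ω', hΩ', rfl⟩, hzΩ', hle⟩ := D.isBasis_affineOpens.exists_subset_of_mem_open
    (show z ∈ r ⁻¹ᵁ Ω.1 ⊓ q ⁻¹ᵁ W.1 from ⟨hzΩ, hzW⟩) (r ⁻¹ᵁ Ω.1 ⊓ q ⁻¹ᵁ W.1).2
  let V : D.affineOpens := ⟨Ω', hΩ'⟩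
  let I := (J.comap (q ≫ c)).ideal V
  have hI : I.FG := EffCartier.isFiniteTypeIdeal_comap hJ _ V
  have hJA : I ^ m ≤ (A.comap (q ≫ c)).ideal V := by
    have h := Ideal.map_mono (f := (r.appLE Ω.1 V.1 (fun x hx => (hle hx).1)).hom) hΩ
    rw [Ideal.map_pow, ← EffCartier.comap_ideal _ r Ω V, ← EffCartier.comap_ideal _ r Ω V,
      ← Scheme.IdealSheafData.comap_comp, ← Scheme.IdealSheafData.comap_comp, hrq] at h
    exact h
  have hAJ : (A.comap (q ≫ c)).ideal V ≤ I ^ (m + 1) := by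
    have h := Ideal.map_mono (f := (q.appLE W.1 V.1 (fun x hx => (hle hx).2)).hom) hW
    rw [← EffCartier.comap_ideal _ q W V, ← EffCartier.comap_ideal _ q W V,
      ← Scheme.IdealSheafData.comap_comp, ← Scheme.IdealSheafData.comap_comp, BlowUpExist.comap_pow] at h
    rwa [Scheme.IdealSheafData.ideal_pow, Pi.pow_apply] at h
  obtain ⟨e, he, he0⟩ := Submodule.exists_sub_one_mem_and_smul_eq_zero_of_fg_of_le_smul I (I ^ m)
    (Ideal.FG.pow hI) (by rw [smul_eq_mul, ← pow_succ']; exact hJA.trans hAJ)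
  by_cases hzJ : z ∈ ((J.comap (q ≫ c)).support : Set D)
  · rw [SetLike.mem_coe, Scheme.IdealSheafData.mem_support_iff_of_mem (U := V) hzΩ', Scheme.mem_zeroLocus_iff] at hzJ
    have hze : z ∈ D.basicOpen e := by
      have hnu : ¬ IsUnit (D.presheaf.germ V.1 z hzΩ' (e - 1)) := fun hu => hzJ _ he ((D.mem_basicOpen _ _ hzΩ').2 hu)
      rw [D.mem_basicOpen _ _ hzΩ']
      have h1 := IsLocalRing.isUnit_or_isUnit_of_add_one (a := D.presheaf.germ V.1 z hzΩ' e)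
        (b := -(D.presheaf.germ V.1 z hzΩ' (e - 1))) (by rw [map_sub, map_one]; ring)
      exact h1.resolve_right fun hu => hnu (by simpa using hu.neg)
    obtain ⟨w, hwe, hwU⟩ := hd.inter_open_nonempty _ (D.basicOpen e).2 ⟨z, hze⟩
    have hwV : w ∈ V.1 := D.basicOpen_le e hwe
    have hwJ : w ∉ ((J.comap (q ≫ c)).support : Set D) := by
      rw [Scheme.IdealSheafData.support_comap]
      show (q ≫ c) w ∉ (J.support : Set Y)
      rw [hJs]; exact fun h => h hwU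
    rw [SetLike.mem_coe, Scheme.IdealSheafData.mem_support_iff_of_mem hwV, Scheme.mem_zeroLocus_iff] at hwJ
    simp only [not_forall, not_not, exists_prop] at hwJ
    obtain ⟨x, hx, hwx⟩ := hwJ
    have h0 := congrArg (D.presheaf.germ V.1 w hwV) (he0 _ (Ideal.pow_mem_pow hx m))
    rw [smul_eq_mul, map_mul, map_pow, map_zero] at h0
    have hu := ((D.mem_basicOpen _ _ hwV).1 hwe).mul (((D.mem_basicOpen _ _ hwV).1 hwx).pow m)
    rw [h0] at hu
    exact not_isUnit_zero hu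
  · have h1 := resid_subset hzL
    rw [Scheme.IdealSheafData.support_comap] at h1 hzJ
    have h2 : (q ≫ c) z ∉ (J.support : Set Y) := hzJ
    rw [hJs, Set.mem_compl_iff, not_not] at h2
    refine Set.disjoint_left.1 hBA hzB (subset_closure ?_)
    show p (r z) ∈ (A.support : Set Y) ∩ U
    rw [← Scheme.Hom.comp_apply, hrq]
    exact ⟨h1, h2⟩

end Groth.Agent.Nagata4
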