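import Groth.Agent.Lib.QAffImm12.Basic
import Groth.Agent.Lib.ProjSpace.Basic
import Mathlib.AlgebraicGeometry.Morphisms.Immersion
import Mathlib.AlgebraicGeometry.Morphisms.Proper

/-!
# Affine schemes of finite type have compactifications
-/

set_option autoImplicit false
set_option backward.isDefEq.respectTransparency false
universe u

open CategoryTheory CategoryTheory.Limits AlgebraicGeometry TopologicalSpace

namespace Groth.Agent.Nagata4

theorem exists_affineSpace_compactification (m : ℕ) (S : Scheme.{u}) :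
    ∃ (P : Scheme.{u}) (j : 𝔸(ULift.{u} (Fin m); S) ⟶ P) (p : P ⟶ S), IsOpenImmersion j ∧ IsProper p ∧
      j ≫ p = 𝔸(ULift.{u} (Fin m); S) ↘ S := by
  let R : CommRingCat.{u} := CommRingCat.of (ULift.{u} ℤ)
  let sZ : S ⟶ Spec R := specULiftZIsTerminal.from S
  let n := ULift.{u} (Fin m)
  let ι₀ := {i : Fin (m + 1) // i ≠ 0}
  let ε : MvPolynomial n R ≃ₐ[R] MvPolynomial ι₀ R :=
    MvPolynomial.renameEquiv R (Equiv.ulift.trans (finSuccAboveEquiv (0 : Fin (m + 1))))
  let E : Spec (CommRingCat.of (MvPolynomial n R)) ⟶ Spec (CommRingCat.of (MvPolynomial ι₀ R)) :=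
    Spec.map (ε.toRingEquiv.toCommRingCatIso).inv
  let o : 𝔸(n; Spec R) ⟶ CohB1.ProjSpace m R :=
    (AffineSpace.SpecIso n R).hom ≫ E ≫ ProjSpace.chart m R 0
  let q := CohB1.ProjSpace.toSpec m R
  have ho : o ≫ q = 𝔸(n; Spec R) ↘ Spec R := by
    simp only [o, q, Category.assoc, ProjSpace.chart_toSpec]
    rw [← Iso.eq_inv_comp, AffineSpace.SpecIso_inv_over, ← Spec.map_comp]
    congr 1
    apply CommRingCat.hom_ext
    exact RingHom.ext fun x => ε.symm.commutes x
  haveI : IsProper q := ProjSpace.isProper_toSpec m R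
  let sq := AffineSpace.isPullback_map (n := n) sZ
  let j : 𝔸(n; S) ⟶ pullback q sZ :=
    sq.isoPullback.hom ≫ pullback.map _ _ _ _ o (𝟙 S) (𝟙 _) (by rw [Category.comp_id, ho]) (by simp)
  refine ⟨pullback q sZ, j, pullback.snd q sZ, inferInstance, inferInstance, ?_⟩
  simp [j]
  rfl

/-- An affine scheme locally of finite type over a quasi-separated base has a compactification. -/
theorem exists_affine_compactification {X S : Scheme.{u}} [IsAffine X] [QuasiSeparatedSpace S] (f : X ⟶ S)
    [LocallyOfFiniteType f] :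
    ∃ (Y : Scheme.{u}) (j : X ⟶ Y) (p : Y ⟶ S), IsOpenImmersion j ∧ QuasiCompact j ∧ IsProper p ∧ j ≫ p = f := by
  obtain ⟨n, i, hi, hif⟩ := QAffImm12.exists_immersion_affineSpace f
  obtain ⟨P, o, p, ho, hp, hop⟩ := exists_affineSpace_compactification n S
  haveI : QuasiSeparatedSpace P := quasiSeparatedSpace_of_quasiSeparated p
  haveI : QuasiCompact (i ≫ o) := inferInstance
  exact ⟨(i ≫ o).image, (i ≫ o).toImage, (i ≫ o).imageι ≫ p, inferInstance, inferInstance, inferInstance,
    by rw [Scheme.Hom.toImage_imageι_assoc, Category.assoc, hop, hif]⟩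

end Groth.Agent.Nagata4
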