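import Groth.Agent.Lib.Nagata4.Noetherian
import Groth.Agent.S0590
import Groth.Agent.S0591
import Groth.Agent.S7395
import Groth.Agent.S9190

/-!
# Nagata compactification
-/

set_option autoImplicit false
set_option backward.isDefEq.respectTransparency false
universe u

open CategoryTheory CategoryTheory.Limits AlgebraicGeometry TopologicalSpace

namespace Groth.Agent.Nagata4

theorem exists_compactification {X S : Scheme.{u}} (f : X ⟶ S) [CompactSpace S] [QuasiSeparatedSpace S] [IsSeparated f]
    [QuasiCompact f] [LocallyOfFiniteType f] : HasComp f := by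
  obtain ⟨X', f', j, hsep, hlfp, hqc, hj, hjf⟩ := Groth.Agent.S7395.result f
  obtain ⟨I, _, _, _, D, c, hc, haff, hft, ⟨e⟩⟩ := Groth.Agent.S0590.result S
  haveI : ∀ i, CompactSpace (D.obj i) := fun i => (hft i).1
  haveI : IsNoetherianRing (CommRingCat.of (ULift.{u} ℤ)) := isNoetherianRing_of_ringEquiv ℤ ULift.ringEquiv.symm
  haveI hNoeth : ∀ i, IsLocallyNoetherian (D.obj i) := fun i =>
    haveI := (hft i).2
    LocallyOfFiniteType.isLocallyNoetherian (IsTerminal.from specULiftZIsTerminal (D.obj i))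
  haveI : ∀ i, QuasiSeparatedSpace (D.obj i) := fun i => inferInstance
  let f'' := f' ≫ e.inv
  obtain ⟨i, Xi, fi, g, _, hfic, hfis, hg⟩ := Groth.Agent.S0591.result D c hc X' f''
  haveI : CompactSpace Xi := QuasiCompact.compactSpace_of_compactSpace fi
  haveI : QuasiSeparatedSpace Xi := quasiSeparatedSpace_of_quasiSeparated fi
  have hid : IsPullback (c.π.app i) (𝟙 c.pt) (𝟙 (D.obj i)) (c.π.app i) := IsPullback.id_vert (c.π.app i)
  obtain ⟨k, φ, Xk, Yk, fk, gk, pY, pX, hY, hX, hfk⟩ :=
    Groth.Agent.S9190.result D c hc i fi (𝟙 (D.obj i)) f'' (𝟙 c.pt) (c.π.app i) g hid hg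
  haveI : IsIso gk := hY.isIso_snd_of_isIso
  haveI := hfk
  have hk : IsPullback pX (fk ≫ gk) fi (D.map φ) := by
    have := hX.paste_vert hY
    rwa [Category.comp_id] at this
  haveI : LocallyOfFiniteType (fk ≫ gk) := MorphismProperty.of_isPullback hk inferInstance
  haveI : QuasiCompact (fk ≫ gk) := MorphismProperty.of_isPullback hk inferInstance
  haveI : IsNoetherian (D.obj k) := ⟨⟩
  obtain ⟨Pk, jk, pk, hjk, -, hpk, hjpk⟩ := hasComp_of_noetherian (fk ≫ gk)
  let l : X' ⟶ Xk := hk.lift g (f'' ≫ c.π.app k) (by rw [Category.assoc, c.w, hg.w])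
  have hl : IsPullback l f'' (fk ≫ gk) (c.π.app k) :=
    IsPullback.of_right (by rw [hk.lift_fst, c.w]; exact hg) (hk.lift_snd _ _ _) hk
  let m : X' ⟶ pullback pk (c.π.app k) := pullback.lift (l ≫ jk) f'' (by rw [Category.assoc, hjpk]; exact hl.w)
  haveI : IsOpenImmersion m := by
    have : IsPullback l m jk (pullback.fst pk (c.π.app k)) :=
      IsPullback.of_bot (v₂₁ := pullback.snd pk (c.π.app k)) (v₂₂ := pk) (h₃₁ := c.π.app k)
        (by rw [pullback.lift_snd, hjpk]; exact hl) (by rw [pullback.lift_fst]) (IsPullback.of_hasPullback _ _)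
    exact MorphismProperty.of_isPullback this hjk
  let q : pullback pk (c.π.app k) ⟶ S := pullback.snd pk (c.π.app k) ≫ e.hom
  have hmq : m ≫ q = f' := by simp [m, q, f'']
  haveI : CompactSpace X := QuasiCompact.compactSpace_of_compactSpace f
  haveI : QuasiSeparatedSpace (pullback pk (c.π.app k) :) := quasiSeparatedSpace_of_quasiSeparated q
  haveI : QuasiCompact (j ≫ m) := inferInstance
  exact ⟨(j ≫ m).image, (j ≫ m).toImage, (j ≫ m).imageι ≫ q, inferInstance, inferInstance, inferInstance,
    by rw [Scheme.Hom.toImage_imageι_assoc, Category.assoc, hmq, hjf]⟩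

end Groth.Agent.Nagata4
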