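import Groth.Agent.Lib.Nagata4.Nagata

/-!
# Compactifications with Cartier boundary
-/

set_option autoImplicit false
set_option backward.isDefEq.respectTransparency false
universe u

open CategoryTheory CategoryTheory.Limits AlgebraicGeometry TopologicalSpace

namespace Groth.Agent.Nagata4

theorem exists_compactification_cartier {X S : Scheme.{u}} [IsNoetherian S] (f : X ⟶ S) [IsSeparated f]
    [QuasiCompact f] [LocallyOfFiniteType f] :
    ∃ (Y : Scheme.{u}) (j : X ⟶ Y) (p : Y ⟶ S) (E : Y.IdealSheafData), IsOpenImmersion j ∧ IsProper p ∧ j ≫ p = f ∧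
      BlowUp.IsEffCartierIdeal E ∧ (E.support : Set Y) = (Set.range j)ᶜ := by
  obtain ⟨Y₀, j₀, p₀, hj₀, -, hp₀, hjp₀⟩ := exists_compactification f
  haveI : IsLocallyNoetherian Y₀ := LocallyOfFiniteType.isLocallyNoetherian p₀
  let I := Scheme.IdealSheafData.vanishingIdeal (X := Y₀)
    ⟨(Set.range j₀)ᶜ, j₀.isOpenEmbedding.isOpen_range.isClosed_compl⟩
  have hI : (I.support : Set Y₀) = (Set.range j₀)ᶜ := Scheme.IdealSheafData.coe_support_vanishingIdeal _
  let b := BlowUpExist.ChartIdx.blowUpHom I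
  have hb : BlowUp.IsBlowUp b I := BlowUpExist.ChartIdx.isBlowUp_blowUpHom
  haveI : IsProper b := BlowUpExist.isProper (isFiniteTypeIdeal_of_noetherian _) hb
  have hdisj : Disjoint (I.support : Set Y₀) (j₀.opensRange : Set Y₀) := by
    rw [hI]; exact disjoint_compl_left
  obtain ⟨j, hj, hjb, hjr⟩ := exists_lift j₀ hb hdisj
  refine ⟨_, j, b ≫ p₀, I.comap b, hj, inferInstance, by rw [reassoc_of% hjb, hjp₀], hb.1, ?_⟩
  rw [Scheme.IdealSheafData.support_comap]
  show b ⁻¹' (I.support : Set Y₀) = _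
  rw [hI, Set.preimage_compl]
  congr 1
  exact (congrArg SetLike.coe hjr).symm

end Groth.Agent.Nagata4
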