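import Groth.Agent.Lib.AdmOpen4.Glue
import Mathlib.AlgebraicGeometry.Morphisms.Proper
import Mathlib.AlgebraicGeometry.Morphisms.Immersion

/-!
# Contracting: gluing opens of two proper schemes along a common open to a proper scheme
-/

set_option autoImplicit false
set_option backward.isDefEq.respectTransparency false
universe u

open CategoryTheory CategoryTheory.Limits AlgebraicGeometry TopologicalSpace

namespace Groth.Agent.Nagata4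

/-- Gluing morphisms given on opens and agreeing near every common point. -/
theorem exists_glue_opens {X T : Scheme.{u}} {ι : Type u} (U : ι → X.Opens) (hU : ⨆ p, U p = ⊤)
    (δ : ∀ p, (U p).toScheme ⟶ T)
    (h : ∀ p q, ∀ x, x ∈ U p → x ∈ U q → ∃ W : X.Opens, x ∈ W ∧ ∃ (hp : W ≤ U p) (hq : W ≤ U q),
      X.homOfLE hp ≫ δ p = X.homOfLE hq ≫ δ q) :
    ∃ G : X ⟶ T, ∀ p, (U p).ι ≫ G = δ p := by
  have compat : ∀ p q, pullback.fst (U p).ι (U q).ι ≫ δ p = pullback.snd (U p).ι (U q).ι ≫ δ q := by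
    intro p q
    refine Scheme.hom_ext_of_forall _ _ fun z => ?_
    let t := pullback.fst (U p).ι (U q).ι ≫ (U p).ι
    have hzq : t z ∈ U q := by
      show (pullback.fst (U p).ι (U q).ι ≫ (U p).ι) z ∈ U q
      rw [pullback.condition]
      exact ((pullback.snd (U p).ι (U q).ι) z).2
    obtain ⟨W, hzW, hp, hq, hW⟩ := h p q (t z) ((pullback.fst (U p).ι (U q).ι) z).2 hzq
    let D := W ⊓ t.opensRange
    let l : D.toScheme ⟶ pullback (U p).ι (U q).ι := IsOpenImmersion.lift t D.ι (by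
      rw [Scheme.Opens.range_ι]; exact inf_le_right)
    have hl : l ≫ t = D.ι := IsOpenImmersion.lift_fac _ _ _
    haveI : IsOpenImmersion l := by
      haveI : IsOpenImmersion (l ≫ t) := by rw [hl]; infer_instance
      exact IsOpenImmersion.of_comp l t
    refine ⟨l.opensRange, ?_, ?_⟩
    · refine ⟨⟨t z, hzW, ⟨z, rfl⟩⟩, t.isOpenEmbedding.injective ?_⟩
      rw [← Scheme.Hom.comp_apply, hl]; rfl
    rw [← Scheme.Hom.isoOpensRange_inv_comp l, Category.assoc, Category.assoc]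
    congr 1
    have hDW : D ≤ W := inf_le_left
    have e1 : l ≫ pullback.fst _ _ = X.homOfLE hDW ≫ X.homOfLE hp := by
      rw [← cancel_mono (U p).ι, Category.assoc, Category.assoc, Scheme.homOfLE_ι, Scheme.homOfLE_ι]
      exact hl
    have e2 : l ≫ pullback.snd _ _ = X.homOfLE hDW ≫ X.homOfLE hq := by
      rw [← cancel_mono (U q).ι, Category.assoc, Category.assoc, Scheme.homOfLE_ι, Scheme.homOfLE_ι]
      exact (congrArg (l ≫ ·) pullback.condition.symm).trans hl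
    rw [← Category.assoc, ← Category.assoc, e1, e2, Category.assoc, Category.assoc, hW]
  let 𝒰 := X.openCoverOfIsOpenCover U hU
  let G := 𝒰.glueMorphisms δ (fun p q => compat p q)
  exact ⟨G, fun p => Scheme.Cover.ι_glueMorphisms 𝒰 δ _ p⟩

theorem isProper_contract {S G Y₁ Y₂ Z : Scheme.{u}} (s₁ : Y₁ ⟶ S) (s₂ : Y₂ ⟶ S) [IsProper s₁] [IsProper s₂]
    (sG : G ⟶ S) [IsProper sG] (p₁ : G ⟶ Y₁) (p₂ : G ⟶ Y₂) (h₁ : p₁ ≫ s₁ = sG) (h₂ : p₂ ≫ s₂ = sG)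
    (A₁ : Y₁.Opens) (A₂ : Y₂.Opens) (o₁ : Z ⟶ (A₁ : Scheme.{u})) (o₂ : Z ⟶ (A₂ : Scheme.{u}))
    [IsOpenImmersion o₁] [IsOpenImmersion o₂]
    (h : o₁ ≫ A₁.ι ≫ s₁ = o₂ ≫ A₂.ι ≫ s₂)
    (e : ((p₁ ⁻¹ᵁ A₁ ⊓ p₂ ⁻¹ᵁ A₂ : G.Opens) : Scheme.{u}) ⟶ Z) (he : Function.Surjective e)
    (he₁ : e ≫ o₁ ≫ A₁.ι = (p₁ ⁻¹ᵁ A₁ ⊓ p₂ ⁻¹ᵁ A₂).ι ≫ p₁)
    (he₂ : e ≫ o₂ ≫ A₂.ι = (p₁ ⁻¹ᵁ A₁ ⊓ p₂ ⁻¹ᵁ A₂).ι ≫ p₂)
    (hcov : ∀ γ, p₁ γ ∈ A₁ ∨ p₂ γ ∈ A₂)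
    (hs₁ : ∀ y ∈ A₁, ∃ γ, p₁ γ = y) (hs₂ : ∀ y ∈ A₂, ∃ γ, p₂ γ = y) :
    IsProper (pushout.desc (A₁.ι ≫ s₁) (A₂.ι ≫ s₂) h) := by
  let R := p₁ ⁻¹ᵁ A₁ ⊓ p₂ ⁻¹ᵁ A₂
  let P := pullback.lift p₁ p₂ (h₁.trans h₂.symm)
  haveI : IsProper P := by
    haveI : IsProper (P ≫ (pullback.fst s₁ s₂ ≫ s₁)) := by
      rw [pullback.lift_fst_assoc, h₁]; infer_instance
    exact IsProper.of_comp P (pullback.fst s₁ s₂ ≫ s₁)
  let m : pullback (A₁.ι ≫ s₁) (A₂.ι ≫ s₂) ⟶ pullback s₁ s₂ :=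
    pullback.map _ _ _ _ A₁.ι A₂.ι (𝟙 S) (by simp) (by simp)
  let L := pullback.lift o₁ o₂ h
  have hLm : e ≫ L ≫ m = R.ι ≫ P := by
    apply pullback.hom_ext
    · simp only [L, m, P, Category.assoc, pullback.lift_fst, pullback.lift_fst_assoc]; exact he₁
    · simp only [L, m, P, Category.assoc, pullback.lift_snd, pullback.lift_snd_assoc]; exact he₂
  have hrange : Set.range L = m ⁻¹' Set.range P := by
    ext z
    constructor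
    · rintro ⟨w, rfl⟩
      obtain ⟨r, rfl⟩ := he w
      refine ⟨R.ι r, ?_⟩
      rw [← Scheme.Hom.comp_apply, ← hLm]
      rfl
    · rintro ⟨γ, hγ⟩
      have hγR : γ ∈ R := by
        refine ⟨?_, ?_⟩
        · show p₁ γ ∈ A₁
          rw [← pullback.lift_fst p₁ p₂ (h₁.trans h₂.symm), Scheme.Hom.comp_apply, hγ, ← Scheme.Hom.comp_apply,
            pullback.lift_fst]
          exact (pullback.fst (A₁.ι ≫ s₁) (A₂.ι ≫ s₂) z).2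
        · show p₂ γ ∈ A₂
          rw [← pullback.lift_snd p₁ p₂ (h₁.trans h₂.symm), Scheme.Hom.comp_apply, hγ, ← Scheme.Hom.comp_apply,
            pullback.lift_snd]
          exact (pullback.snd (A₁.ι ≫ s₁) (A₂.ι ≫ s₂) z).2
      refine ⟨e ⟨γ, hγR⟩, m.isOpenEmbedding.injective ?_⟩
      rw [← hγ, ← Scheme.Hom.comp_apply, ← Scheme.Hom.comp_apply e (L ≫ m), hLm]
      rfl
  haveI : IsImmersion L := by
    haveI : IsImmersion (L ≫ pullback.fst (A₁.ι ≫ s₁) (A₂.ι ≫ s₂)) := by rw [pullback.lift_fst]; infer_instance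
    exact IsImmersion.of_comp L (pullback.fst (A₁.ι ≫ s₁) (A₂.ι ≫ s₂))
  haveI : IsClosedImmersion L := IsClosedImmersion.of_isPreimmersion L
    (hrange ▸ P.isClosedMap.isClosed_range.preimage m.continuous)
  let q := pushout.desc (A₁.ι ≫ s₁) (A₂.ι ≫ s₂) h
  haveI : IsSeparated q := AdmOpen4.isSeparated_pushout o₁ o₂ _ _ h
  haveI : LocallyOfFiniteType q := AdmOpen4.locallyOfFiniteType_pushout o₁ o₂ _ _ h
  obtain ⟨φ, hφ⟩ := exists_glue_opens (T := pushout o₁ o₂) (fun b : ULift.{u} Bool => cond b.down (p₁ ⁻¹ᵁ A₁) (p₂ ⁻¹ᵁ A₂))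
    (top_le_iff.1 fun γ _ => Opens.mem_iSup.2 ((hcov γ).elim (fun h => ⟨⟨true⟩, h⟩) (fun h => ⟨⟨false⟩, h⟩)))
    (fun b => match b with
      | ⟨true⟩ => (p₁ ∣_ A₁) ≫ pushout.inl o₁ o₂
      | ⟨false⟩ => (p₂ ∣_ A₂) ≫ pushout.inr o₁ o₂) (by
    have key : G.homOfLE (inf_le_left : R ≤ p₁ ⁻¹ᵁ A₁) ≫ (p₁ ∣_ A₁) ≫ pushout.inl o₁ o₂ =
        G.homOfLE (inf_le_right : R ≤ p₂ ⁻¹ᵁ A₂) ≫ (p₂ ∣_ A₂) ≫ pushout.inr o₁ o₂ := by
      have e1 : G.homOfLE (inf_le_left : R ≤ p₁ ⁻¹ᵁ A₁) ≫ (p₁ ∣_ A₁) = e ≫ o₁ := by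
        rw [← cancel_mono A₁.ι, Category.assoc, morphismRestrict_ι, Scheme.homOfLE_ι_assoc, Category.assoc, he₁]
      have e2 : G.homOfLE (inf_le_right : R ≤ p₂ ⁻¹ᵁ A₂) ≫ (p₂ ∣_ A₂) = e ≫ o₂ := by
        rw [← cancel_mono A₂.ι, Category.assoc, morphismRestrict_ι, Scheme.homOfLE_ι_assoc, Category.assoc, he₂]
      rw [← Category.assoc, e1, ← Category.assoc, e2, Category.assoc, Category.assoc, pushout.condition]
    rintro ⟨_ | _⟩ ⟨_ | _⟩ x hx hy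
    · exact ⟨_, hx, le_rfl, le_rfl, rfl⟩
    · exact ⟨R, ⟨hy, hx⟩, inf_le_right, inf_le_left, key.symm⟩
    · exact ⟨R, ⟨hx, hy⟩, inf_le_left, inf_le_right, key⟩
    · exact ⟨_, hx, le_rfl, le_rfl, rfl⟩)
  have hφ₁ : (p₁ ⁻¹ᵁ A₁).ι ≫ φ = (p₁ ∣_ A₁) ≫ pushout.inl o₁ o₂ := hφ ⟨true⟩
  have hφ₂ : (p₂ ⁻¹ᵁ A₂).ι ≫ φ = (p₂ ∣_ A₂) ≫ pushout.inr o₁ o₂ := hφ ⟨false⟩
  have hφq : φ ≫ q = sG := by
    refine Scheme.hom_ext_of_forall _ _ fun γ => ?_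
    rcases hcov γ with hγ | hγ
    · exact ⟨p₁ ⁻¹ᵁ A₁, hγ, by rw [reassoc_of% hφ₁, pushout.inl_desc, morphismRestrict_ι_assoc, h₁]⟩
    · exact ⟨p₂ ⁻¹ᵁ A₂, hγ, by rw [reassoc_of% hφ₂, pushout.inr_desc, morphismRestrict_ι_assoc, h₂]⟩
  haveI : Surjective φ := ⟨fun y => by
    rcases (LimH13.range_inl_sup_range_inr o₁ o₂).ge (show y ∈ ⊤ from trivial) with ⟨a, rfl⟩ | ⟨a, rfl⟩
    · obtain ⟨γ, hγ⟩ := hs₁ _ a.2
      refine ⟨(p₁ ⁻¹ᵁ A₁).ι ⟨γ, show p₁ γ ∈ A₁ from hγ.symm ▸ a.2⟩, ?_⟩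
      rw [← Scheme.Hom.comp_apply, hφ₁, Scheme.Hom.comp_apply]
      exact congrArg _ (A₁.ι.isOpenEmbedding.injective (by rw [← Scheme.Hom.comp_apply, morphismRestrict_ι]; exact hγ))
    · obtain ⟨γ, hγ⟩ := hs₂ _ a.2
      refine ⟨(p₂ ⁻¹ᵁ A₂).ι ⟨γ, show p₂ γ ∈ A₂ from hγ.symm ▸ a.2⟩, ?_⟩
      rw [← Scheme.Hom.comp_apply, hφ₂, Scheme.Hom.comp_apply]
      exact congrArg _ (A₂.ι.isOpenEmbedding.injective (by rw [← Scheme.Hom.comp_apply, morphismRestrict_ι]; exact hγ))⟩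
  haveI : UniversallyClosed q := by
    haveI : UniversallyClosed (φ ≫ q) := by rw [hφq]; infer_instance
    exact UniversallyClosed.of_comp_surjective φ q
  exact IsProper.mk

end Groth.Agent.Nagata4
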