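import Groth.Agent.Lib.Nagata4.Nagata

/-!
# Compactifications separating finitely many pairs of disjoint closed sets
-/

set_option autoImplicit false
set_option backward.isDefEq.respectTransparency false
universe v u

open CategoryTheory CategoryTheory.Limits AlgebraicGeometry TopologicalSpace

namespace Groth.Agent.Nagata4

variable {X S : Scheme.{u}}

theorem exists_separate_pair [IsNoetherian S] {Y : Scheme.{u}} (p : Y ⟶ S) [IsProper p] (j : X ⟶ Y) [IsOpenImmersion j]
    (hj : DenseRange j) (C₁ C₂ : Set X) (h₁ : IsClosed C₁) (h₂ : IsClosed C₂) (hd : C₁ ∩ C₂ = ∅) :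
    ∃ (Y' : Scheme.{u}) (b : Y' ⟶ Y) (j' : X ⟶ Y'), IsProper b ∧ IsOpenImmersion j' ∧ DenseRange j' ∧ j' ≫ b = j ∧
      closure (j' '' C₁) ∩ closure (j' '' C₂) = ∅ := by
  haveI : IsLocallyNoetherian Y := LocallyOfFiniteType.isLocallyNoetherian p
  let A := Scheme.IdealSheafData.vanishingIdeal (X := Y) ⟨closure (j '' C₁), isClosed_closure⟩
  let B := Scheme.IdealSheafData.vanishingIdeal (X := Y) ⟨closure (j '' C₂), isClosed_closure⟩
  have hA : (A.support : Set Y) = closure (j '' C₁) := Scheme.IdealSheafData.coe_support_vanishingIdeal _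
  have hB : (B.support : Set Y) = closure (j '' C₂) := Scheme.IdealSheafData.coe_support_vanishingIdeal _
  have hmem : ∀ (C : Set X), IsClosed C → ∀ x, j x ∈ closure (j '' C) → x ∈ C := fun C hC x hx => by
    have : x ∈ closure C := by
      rw [j.isOpenEmbedding.isInducing.closure_eq_preimage_closure_image]; exact hx
    rwa [hC.closure_eq] at this
  have hne : ∀ x, j x ∈ closure (j '' C₁) → j x ∈ closure (j '' C₂) → False := fun x hx hx' => by
    have : x ∈ C₁ ∩ C₂ := ⟨hmem C₁ h₁ x hx, hmem C₂ h₂ x hx'⟩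
    rw [hd] at this; exact this
  let b := BlowUpExist.ChartIdx.blowUpHom (A ⊔ B)
  have hb : BlowUp.IsBlowUp b (A ⊔ B) := BlowUpExist.ChartIdx.isBlowUp_blowUpHom
  haveI : IsProper b := BlowUpExist.isProper (isFiniteTypeIdeal_of_noetherian _) hb
  have hbc := hb.1
  rw [Scheme.IdealSheafData.comap_sup] at hbc
  have hdisj : Disjoint ((A ⊔ B).support : Set Y) (j.opensRange : Set Y) := by
    refine Set.disjoint_left.2 ?_
    rintro _ hy ⟨x, rfl⟩
    have h₁' := Scheme.IdealSheafData.support_antitone (le_sup_left : A ≤ A ⊔ B) hy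
    have h₂' := Scheme.IdealSheafData.support_antitone (le_sup_right : B ≤ A ⊔ B) hy
    change j x ∈ (A.support : Set Y) at h₁'
    change j x ∈ (B.support : Set Y) at h₂'
    rw [hA] at h₁'; rw [hB] at h₂'
    exact hne x h₁' h₂'
  obtain ⟨j', hj', hj'b, hj'r⟩ := exists_lift j hb hdisj
  refine ⟨_, b, j', inferInstance, hj', ?_, hj'b, ?_⟩
  · have h := dense_blowUp_preimage hb j.opensRange hj
    rw [← hj'r] at h
    exact h
  · have hval : ∀ x, b (j' x) = j x := fun x => by rw [← Scheme.Hom.comp_apply, hj'b]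
    have hpre : ∀ (K : Y.IdealSheafData) (x : X), j' x ∈ ((K.comap b).support : Set _) ↔ j x ∈ (K.support : Set Y) := by
      intro K x
      rw [Scheme.IdealSheafData.support_comap, ← hval]
      rfl
    refine Set.disjoint_iff_inter_eq_empty.1 ((disjoint_resid hbc).mono ?_ ?_)
    · refine closure_minimal ?_ (isClosed_resid _ _)
      rintro _ ⟨x, hx, rfl⟩
      refine mem_resid ((hpre A x).2 ?_) fun hxB => ?_
      · rw [hA]; exact subset_closure ⟨x, hx, rfl⟩
      · rw [hpre, hB] at hxB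
        exact hne x (subset_closure ⟨x, hx, rfl⟩) hxB
    · refine closure_minimal ?_ (isClosed_resid _ _)
      rintro _ ⟨x, hx, rfl⟩
      refine mem_resid ((hpre B x).2 ?_) fun hxA => ?_
      · rw [hB]; exact subset_closure ⟨x, hx, rfl⟩
      · rw [hpre, hA] at hxA
        exact hne x hxA (subset_closure ⟨x, hx, rfl⟩)

theorem exists_compactification_disjoint [IsNoetherian S] (f : X ⟶ S) [IsSeparated f] [QuasiCompact f]
    [LocallyOfFiniteType f] {ι : Type v} (s : Finset ι) (C₁ C₂ : ι → Set X) (h₁ : ∀ i, IsClosed (C₁ i))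
    (h₂ : ∀ i, IsClosed (C₂ i)) (hd : ∀ i, C₁ i ∩ C₂ i = ∅) :
    ∃ (Y : Scheme.{u}) (j : X ⟶ Y) (p : Y ⟶ S), IsProper p ∧ IsOpenImmersion j ∧ DenseRange j ∧ j ≫ p = f ∧
      ∀ i ∈ s, closure (j '' C₁ i) ∩ closure (j '' C₂ i) = ∅ := by
  classical
  induction s using Finset.induction_on with
  | empty =>
    obtain ⟨Y, j, p, hj, hp, hdom, hjp⟩ := exists_dense_compactification f (exists_compactification f)
    exact ⟨Y, j, p, hp, hj, hdom.denseRange, hjp, by simp⟩
  | insert a s _ ih =>
    obtain ⟨Y, j, p, hp, hj, hdense, hjp, hs⟩ := ih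
    obtain ⟨Y', b, j', hb, hj', hdense', hj'b, ha⟩ := exists_separate_pair p j hdense (C₁ a) (C₂ a) (h₁ a) (h₂ a) (hd a)
    refine ⟨Y', j', b ≫ p, inferInstance, hj', hdense', by rw [reassoc_of% hj'b, hjp], fun i hi => ?_⟩
    rcases Finset.mem_insert.1 hi with rfl | hi
    · exact ha
    · have hsub : ∀ C : Set X, closure (j' '' C) ⊆ b ⁻¹' closure (j '' C) := fun C => by
        refine closure_minimal ?_ (isClosed_closure.preimage b.continuous)
        rintro _ ⟨x, hx, rfl⟩
        exact subset_closure ⟨x, hx, by rw [← Scheme.Hom.comp_apply, hj'b]⟩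
      refine Set.subset_empty_iff.1 ((Set.inter_subset_inter (hsub _) (hsub _)).trans ?_)
      rw [← Set.preimage_inter, hs i hi, Set.preimage_empty]

end Groth.Agent.Nagata4
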