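import Groth.Agent.Lib.Nagata4.Side

/-!
# Extending a blow-up of the inner open to a compactification
-/

set_option autoImplicit false
set_option backward.isDefEq.respectTransparency false
universe u

open CategoryTheory CategoryTheory.Limits AlgebraicGeometry TopologicalSpace

namespace Groth.Agent.Nagata4

theorem exists_side_ext {O P Y Yt : Scheme.{u}} [IsNoetherian Y] (i : O ⟶ P) [IsOpenImmersion i]
    (k : P ⟶ Y) [IsOpenImmersion k] (hd : Dense (Set.range (i ≫ k)))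
    (M : Y.Opens) (hMR : (M : Set Y) ∩ Set.range k ⊆ Set.range (i ≫ k))
    (J : (M : Scheme.{u}).IdealSheafData) (hJ : BlowUp.IsFiniteTypeIdeal J)
    (hJd : Disjoint (J.support : Set (M : Scheme.{u})) (M.ι ⁻¹' Set.range (i ≫ k)))
    (c : Yt ⟶ (M : Scheme.{u})) (hc : BlowUp.IsBlowUp c J) :
    ∃ (Y' : Scheme.{u}) (d : Y' ⟶ Y) (k' : P ⟶ Y') (o : Yt ⟶ Y') (_ : IsProper d) (_ : IsOpenImmersion k')
      (_ : IsOpenImmersion o),
      o ≫ d = c ≫ M.ι ∧ Set.range o = d ⁻¹' (M : Set Y) ∧ k' ≫ d = k ∧ Dense (Set.range (i ≫ k')) ∧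
        ∀ u : O ⟶ Yt, u ≫ c ≫ M.ι = i ≫ k → u ≫ o = i ≫ k' := by
  have hadm : BlowUp.IsAdmissibleFor (M.ι ⁻¹ᵁ k.opensRange) J :=
    ⟨hJ, Set.disjoint_left.2 fun x hx hxR => Set.disjoint_left.1 hJd hx (hMR ⟨x.2, hxR⟩)⟩
  obtain ⟨K, Y', d, o, hK, hd', hdp, ho, hod, hor⟩ := exists_extend_side k.opensRange M
    (NoetherianSpace.isCompact _) (NoetherianSpace.isCompact _) J hadm c hc
  obtain ⟨k', hk', hkd, hkr⟩ := exists_lift k hd' hK.2
  refine ⟨Y', d, k', o, hdp, hk', ho, hod, hor, hkd, ?_, fun u hu => ?_⟩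
  · refine (dense_blowUp_preimage hd' (i ≫ k).opensRange hd).mono fun y hy => ?_
    obtain ⟨x, hx⟩ := hy
    obtain ⟨v, rfl⟩ : y ∈ k'.opensRange := by
      rw [hkr]
      exact ⟨i x, hx⟩
    refine ⟨x, congrArg k' (k.isOpenEmbedding.injective ?_ : i x = v)⟩
    show (i ≫ k) x = k v
    rw [hx, ← Scheme.Hom.comp_apply, hkd]
  · have heff : BlowUp.IsEffCartierIdeal (K.comap (i ≫ k)) := by
      rw [EffCartier.comap_eq_top _ _ fun x hx => Set.disjoint_left.1 hK.2 hx ⟨i x, rfl⟩]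
      exact EffCartier.isEffCartierIdeal_top
    exact (hd'.2 _ _ heff).unique (by beta_reduce; rw [Category.assoc, hod]; exact hu)
      (by beta_reduce; rw [Category.assoc, hkd])

end Groth.Agent.Nagata4
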