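import Groth.Agent.Lib.Nagata4.Ext

/-!
# Models in which the two inner opens coincide
-/

set_option autoImplicit false
set_option backward.isDefEq.respectTransparency false
universe u

open CategoryTheory CategoryTheory.Limits AlgebraicGeometry TopologicalSpace

namespace Groth.Agent.Nagata4

variable {S : Scheme.{u}}

theorem exists_lift_open {G Y : Scheme.{u}} (q : G ⟶ Y) (R : G.Opens) (M : Y.Opens) (h : ∀ x ∈ R, q x ∈ M) :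
    ∃ π : (R : Scheme.{u}) ⟶ (M : Scheme.{u}), π ≫ M.ι = R.ι ≫ q :=
  ⟨IsOpenImmersion.lift M.ι (R.ι ≫ q) (by
    rintro _ ⟨z, rfl⟩
    rw [Scheme.Opens.range_ι]
    exact h z.1 z.2), IsOpenImmersion.lift_fac _ _ _⟩

theorem isOpenImmersion_restrict_of_iso {G Y : Scheme.{u}} (q : G ⟶ Y) (R : G.Opens) (M W : Y.Opens) [IsIso (q ∣_ W)]
    (π : (R : Scheme.{u}) ⟶ (M : Scheme.{u})) (hπ : π ≫ M.ι = R.ι ≫ q) : IsOpenImmersion (π ∣_ (M.ι ⁻¹ᵁ W)) := by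
  let V := M.ι ⁻¹ᵁ W
  have hr : Set.range ((π ⁻¹ᵁ V).ι ≫ R.ι) ⊆ Set.range (q ⁻¹ᵁ W).ι := by
    rintro _ ⟨z, rfl⟩
    rw [Scheme.Opens.range_ι]
    show q (R.ι z.1) ∈ W
    rw [← Scheme.Hom.comp_apply, ← hπ]
    exact z.2
  let l := IsOpenImmersion.lift (q ⁻¹ᵁ W).ι ((π ⁻¹ᵁ V).ι ≫ R.ι) hr
  have hl : l ≫ (q ⁻¹ᵁ W).ι = (π ⁻¹ᵁ V).ι ≫ R.ι := IsOpenImmersion.lift_fac _ _ _
  haveI : IsOpenImmersion l := by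
    haveI : IsOpenImmersion (l ≫ (q ⁻¹ᵁ W).ι) := by rw [hl]; infer_instance
    exact IsOpenImmersion.of_comp l (q ⁻¹ᵁ W).ι
  have hh : (π ∣_ V) ≫ V.ι ≫ M.ι = l ≫ (q ∣_ W) ≫ W.ι := by
    rw [morphismRestrict_ι_assoc, hπ, morphismRestrict_ι, reassoc_of% hl]
  haveI : IsOpenImmersion ((π ∣_ V) ≫ V.ι ≫ M.ι) := by rw [hh]; infer_instance
  exact IsOpenImmersion.of_comp (π ∣_ V) (V.ι ≫ M.ι)

theorem exists_models [IsNoetherian S] {O P₁ P₂ Y₁ Y₂ G : Scheme.{u}} [CompactSpace O]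
    (i₁ : O ⟶ P₁) (i₂ : O ⟶ P₂) [IsOpenImmersion i₁] [IsOpenImmersion i₂]
    (k₁ : P₁ ⟶ Y₁) (k₂ : P₂ ⟶ Y₂) [IsOpenImmersion k₁] [IsOpenImmersion k₂]
    (s₁ : Y₁ ⟶ S) (s₂ : Y₂ ⟶ S) [IsProper s₁] [IsProper s₂]
    (hd₁ : Dense (Set.range (i₁ ≫ k₁))) (hd₂ : Dense (Set.range (i₂ ≫ k₂)))
    (sG : G ⟶ S) [IsProper sG] (q₁ : G ⟶ Y₁) (q₂ : G ⟶ Y₂) (hq₁ : q₁ ≫ s₁ = sG) (hq₂ : q₂ ≫ s₂ = sG)
    (t : O ⟶ G) [IsSchemeTheoreticallyDominant t] [QuasiCompact t] (ht₁ : t ≫ q₁ = i₁ ≫ k₁) (ht₂ : t ≫ q₂ = i₂ ≫ k₂)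
    (L₁ : Set Y₁) (L₂ : Set Y₂) (hL₁ : IsClosed L₁) (hL₂ : IsClosed L₂) (hL : Disjoint (q₁ ⁻¹' L₁) (q₂ ⁻¹' L₂))
    (hLO₁ : Disjoint L₁ (Set.range (i₁ ≫ k₁))) (hLO₂ : Disjoint L₂ (Set.range (i₂ ≫ k₂)))
    (hLZ₁ : Set.range k₁ \ Set.range (i₁ ≫ k₁) ⊆ L₁) (hLZ₂ : Set.range k₂ \ Set.range (i₂ ≫ k₂) ⊆ L₂) :
    ∃ (Y₁' Y₂' Z : Scheme.{u}) (k₁' : P₁ ⟶ Y₁') (k₂' : P₂ ⟶ Y₂') (s₁' : Y₁' ⟶ S) (s₂' : Y₂' ⟶ S)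
      (o₁ : Z ⟶ Y₁') (o₂ : Z ⟶ Y₂') (u : O ⟶ Z)
      (_ : IsOpenImmersion k₁') (_ : IsOpenImmersion k₂') (_ : IsProper s₁') (_ : IsProper s₂')
      (_ : IsOpenImmersion o₁) (_ : IsOpenImmersion o₂)
      (G' : Scheme.{u}) (sG' : G' ⟶ S) (_ : IsProper sG') (p₁ : G' ⟶ Y₁') (p₂ : G' ⟶ Y₂') (t' : O ⟶ G')
      (L₁' : Set Y₁') (L₂' : Set Y₂') (R : G'.Opens) (e : (R : Scheme.{u}) ⟶ Z),
      k₁' ≫ s₁' = k₁ ≫ s₁ ∧ k₂' ≫ s₂' = k₂ ≫ s₂ ∧ p₁ ≫ s₁' = sG' ∧ p₂ ≫ s₂' = sG' ∧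
      o₁ ≫ s₁' = o₂ ≫ s₂' ∧
      Dense (Set.range (i₁ ≫ k₁')) ∧ Dense (Set.range (i₂ ≫ k₂')) ∧
      t' ≫ p₁ = i₁ ≫ k₁' ∧ t' ≫ p₂ = i₂ ≫ k₂' ∧ u ≫ o₁ = i₁ ≫ k₁' ∧ u ≫ o₂ = i₂ ≫ k₂' ∧
      IsClosed L₁' ∧ IsClosed L₂' ∧ Disjoint (p₁ ⁻¹' L₁') (p₂ ⁻¹' L₂') ∧
      Disjoint L₁' (Set.range o₁) ∧ Disjoint L₂' (Set.range o₂) ∧
      Set.range k₁' \ Set.range (i₁ ≫ k₁') ⊆ L₁' ∧ Set.range k₂' \ Set.range (i₂ ≫ k₂') ⊆ L₂' ∧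
      (R : Set G') = (p₁ ⁻¹' L₁' ∪ p₂ ⁻¹' L₂')ᶜ ∧ (R : Set G') = p₁ ⁻¹' Set.range o₁ ∧ (R : Set G') = p₂ ⁻¹' Set.range o₂ ∧
      e ≫ o₁ = R.ι ≫ p₁ ∧ e ≫ o₂ = R.ι ≫ p₂ := by
  haveI : QuasiSeparatedSpace S := inferInstance
  haveI : IsLocallyNoetherian Y₁ := LocallyOfFiniteType.isLocallyNoetherian s₁
  haveI : IsLocallyNoetherian Y₂ := LocallyOfFiniteType.isLocallyNoetherian s₂
  haveI : IsLocallyNoetherian G := LocallyOfFiniteType.isLocallyNoetherian sG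
  haveI : CompactSpace G := QuasiCompact.compactSpace_of_compactSpace sG
  haveI : CompactSpace Y₁ := QuasiCompact.compactSpace_of_compactSpace s₁
  haveI : CompactSpace Y₂ := QuasiCompact.compactSpace_of_compactSpace s₂
  haveI : IsNoetherian Y₁ := ⟨⟩
  haveI : IsNoetherian Y₂ := ⟨⟩
  haveI : IsNoetherian G := ⟨⟩
  let M₁ : Y₁.Opens := ⟨L₁ᶜ, hL₁.isOpen_compl⟩
  let M₂ : Y₂.Opens := ⟨L₂ᶜ, hL₂.isOpen_compl⟩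
  let R₀ : G.Opens := q₁ ⁻¹ᵁ M₁ ⊓ q₂ ⁻¹ᵁ M₂
  haveI : CompactSpace (R₀ : Scheme.{u}) := isCompact_iff_compactSpace.1 (NoetherianSpace.isCompact (R₀ : Set G))
  haveI : CompactSpace (M₁ : Scheme.{u}) := isCompact_iff_compactSpace.1 (NoetherianSpace.isCompact (M₁ : Set Y₁))
  haveI : CompactSpace (M₂ : Scheme.{u}) := isCompact_iff_compactSpace.1 (NoetherianSpace.isCompact (M₂ : Set Y₂))
  haveI : IsNoetherian (M₁ : Scheme.{u}) := ⟨⟩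
  haveI : IsNoetherian (M₂ : Scheme.{u}) := ⟨⟩
  obtain ⟨π₁, hπ₁⟩ := exists_lift_open q₁ R₀ M₁ fun x hx => hx.1
  obtain ⟨π₂, hπ₂⟩ := exists_lift_open q₂ R₀ M₂ fun x hx => hx.2
  haveI : LocallyOfFiniteType π₁ := by
    haveI : LocallyOfFiniteType (π₁ ≫ M₁.ι ≫ s₁) := by rw [← Category.assoc, hπ₁, Category.assoc, hq₁]; infer_instance
    exact locallyOfFiniteType_of_comp π₁ (M₁.ι ≫ s₁)
  haveI : LocallyOfFiniteType π₂ := by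
    haveI : LocallyOfFiniteType (π₂ ≫ M₂.ι ≫ s₂) := by rw [← Category.assoc, hπ₂, Category.assoc, hq₂]; infer_instance
    exact locallyOfFiniteType_of_comp π₂ (M₂.ι ≫ s₂)
  haveI : IsSeparated π₁ := by
    haveI : IsSeparated (π₁ ≫ M₁.ι ≫ s₁) := by rw [← Category.assoc, hπ₁, Category.assoc, hq₁]; infer_instance
    exact IsSeparated.of_comp π₁ (M₁.ι ≫ s₁)
  haveI : IsSeparated π₂ := by
    haveI : IsSeparated (π₂ ≫ M₂.ι ≫ s₂) := by rw [← Category.assoc, hπ₂, Category.assoc, hq₂]; infer_instance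
    exact IsSeparated.of_comp π₂ (M₂.ι ≫ s₂)
  haveI : IsSeparated q₁ := by
    haveI : IsSeparated (q₁ ≫ s₁) := by rw [hq₁]; infer_instance
    exact IsSeparated.of_comp q₁ s₁
  haveI : IsSeparated q₂ := by
    haveI : IsSeparated (q₂ ≫ s₂) := by rw [hq₂]; infer_instance
    exact IsSeparated.of_comp q₂ s₂
  haveI := isIso_over t q₁ (i₁ ≫ k₁) ht₁
  haveI := isIso_over t q₂ (i₂ ≫ k₂) ht₂
  haveI := isOpenImmersion_restrict_of_iso q₁ R₀ M₁ (i₁ ≫ k₁).opensRange π₁ hπ₁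
  haveI := isOpenImmersion_restrict_of_iso q₂ R₀ M₂ (i₂ ≫ k₂).opensRange π₂ hπ₂
  obtain ⟨I, J₁, J₂, Z, Yt₁, Yt₂, b, c₁, c₂, j₁, j₂, w₁, w₂, hb, hI, hc₁, hJ₁, hJd₁, hc₂, hJ₂, hJd₂, hj₁, hj₂, hcl₁, hcl₂⟩ :=
    AdmOpen4.exists_twoSided π₁ π₂ (M₁.ι ⁻¹ᵁ (i₁ ≫ k₁).opensRange) (M₂.ι ⁻¹ᵁ (i₂ ≫ k₂).opensRange)
      (NoetherianSpace.isCompact _) (NoetherianSpace.isCompact _)
  -- the lift of the common open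
  have htR : ∀ x, t x ∈ R₀ := fun x =>
    ⟨fun h => Set.disjoint_left.1 hLO₁ h ⟨x, by rw [← Scheme.Hom.comp_apply t q₁, ht₁]⟩,
     fun h => Set.disjoint_left.1 hLO₂ h ⟨x, by rw [← Scheme.Hom.comp_apply t q₂, ht₂]⟩⟩
  obtain ⟨t₀, ht₀, _⟩ := exists_lift_dominant t R₀ htR
  have hπ₁t : t₀ ≫ π₁ ≫ M₁.ι = i₁ ≫ k₁ := by rw [hπ₁, ← Category.assoc, ht₀, ht₁]
  have hπ₂t : t₀ ≫ π₂ ≫ M₂.ι = i₂ ≫ k₂ := by rw [hπ₂, ← Category.assoc, ht₀, ht₂]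
  have hmem₁ : ∀ x, π₁ (t₀ x) ∈ M₁.ι ⁻¹ᵁ (i₁ ≫ k₁).opensRange := fun x =>
    ⟨x, by rw [← hπ₁t]; rfl⟩
  have hmem₂ : ∀ x, π₂ (t₀ x) ∈ M₂.ι ⁻¹ᵁ (i₂ ≫ k₂).opensRange := fun x =>
    ⟨x, by rw [← hπ₂t]; rfl⟩
  have heff : BlowUp.IsEffCartierIdeal (I.comap t₀) := by
    rw [EffCartier.comap_eq_top _ _ fun x hx => Set.disjoint_left.1 hI.2 hx ⟨hmem₁ x, hmem₂ x⟩]
    exact EffCartier.isEffCartierIdeal_top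
  obtain ⟨u, hu, -⟩ := hb.2 O t₀ heff
  have hsur₁ : Disjoint (J₁.support : Set (M₁ : Scheme.{u})) (M₁.ι ⁻¹' Set.range (i₁ ≫ k₁)) := by
    refine hJd₁.mono_right ?_
    rintro m ⟨x, hx⟩
    exact ⟨t₀ x, ⟨hmem₁ x, hmem₂ x⟩, M₁.ι.isOpenEmbedding.injective (by rw [← hx, ← hπ₁t]; rfl)⟩
  have hsur₂ : Disjoint (J₂.support : Set (M₂ : Scheme.{u})) (M₂.ι ⁻¹' Set.range (i₂ ≫ k₂)) := by
    refine hJd₂.mono_right ?_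
    rintro m ⟨x, hx⟩
    exact ⟨t₀ x, ⟨hmem₁ x, hmem₂ x⟩, M₂.ι.isOpenEmbedding.injective (by rw [← hx, ← hπ₂t]; rfl)⟩
  obtain ⟨Y₁', d₁, k₁', o₁, hdp₁, hk₁', ho₁, hod₁, hor₁, hkd₁, hd₁', hu₁'⟩ := exists_side_ext i₁ k₁ hd₁ M₁
    (fun y hy => by by_contra h; exact hy.1 (hLZ₁ ⟨hy.2, h⟩)) J₁ hJ₁ hsur₁ c₁ hc₁
  obtain ⟨Y₂', d₂, k₂', o₂, hdp₂, hk₂', ho₂, hod₂, hor₂, hkd₂, hd₂', hu₂'⟩ := exists_side_ext i₂ k₂ hd₂ M₂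
    (fun y hy => by by_contra h; exact hy.1 (hLZ₂ ⟨hy.2, h⟩)) J₂ hJ₂ hsur₂ c₂ hc₂
  have hu₁ : u ≫ j₁ ≫ o₁ = i₁ ≫ k₁' := by
    rw [← Category.assoc]
    refine hu₁' _ ?_
    rw [Category.assoc, ← reassoc_of% w₁, ← Category.assoc, hu, hπ₁t]
  have hu₂ : u ≫ j₂ ≫ o₂ = i₂ ≫ k₂' := by
    rw [← Category.assoc]
    refine hu₂' _ ?_
    rw [Category.assoc, ← reassoc_of% w₂, ← Category.assoc, hu, hπ₂t]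
  -- the graph
  have hs : ∀ {Y : Scheme.{u}} (v : O ⟶ Y) (s : Y ⟶ S) (hv : v ≫ s = t ≫ sG), t ≫ sG = v ≫ s := fun v s hv => hv.symm
  have hv₁ : t ≫ sG = (i₁ ≫ k₁') ≫ d₁ ≫ s₁ := by rw [← hq₁, reassoc_of% ht₁, Category.assoc, reassoc_of% hkd₁]
  let m₁ := pullback.lift t (i₁ ≫ k₁') hv₁
  have hv₂ : m₁ ≫ pullback.fst sG (d₁ ≫ s₁) ≫ sG = (i₂ ≫ k₂') ≫ d₂ ≫ s₂ := by
    rw [pullback.lift_fst_assoc, ← hq₂, reassoc_of% ht₂, Category.assoc, reassoc_of% hkd₂]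
  let m := pullback.lift m₁ (i₂ ≫ k₂') hv₂
  haveI : QuasiSeparatedSpace (pullback (pullback.fst sG (d₁ ≫ s₁) ≫ sG) (d₂ ≫ s₂) :) :=
    quasiSeparatedSpace_of_quasiSeparated (pullback.fst (pullback.fst sG (d₁ ≫ s₁) ≫ sG) (d₂ ≫ s₂) ≫ pullback.fst sG (d₁ ≫ s₁) ≫ sG)
  haveI : QuasiCompact m := inferInstance
  haveI := EffCartier.dominant_toImage m
  let r := m.imageι ≫ pullback.fst _ _ ≫ pullback.fst sG (d₁ ≫ s₁)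
  let p₁ := m.imageι ≫ pullback.fst _ _ ≫ pullback.snd sG (d₁ ≫ s₁)
  let p₂ := m.imageι ≫ pullback.snd (pullback.fst sG (d₁ ≫ s₁) ≫ sG) (d₂ ≫ s₂)
  let sG' := r ≫ sG
  have hp₁ : p₁ ≫ d₁ ≫ s₁ = sG' := by simp only [p₁, r, sG', Category.assoc, pullback.condition]
  have hp₂ : p₂ ≫ d₂ ≫ s₂ = sG' := by simp only [p₂, r, sG', Category.assoc]; rw [← pullback.condition]
  have htr : m.toImage ≫ r = t := by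
    simp only [r]; rw [Scheme.Hom.toImage_imageι_assoc, pullback.lift_fst_assoc, pullback.lift_fst]
  have htp₁ : m.toImage ≫ p₁ = i₁ ≫ k₁' := by
    simp only [p₁]; rw [Scheme.Hom.toImage_imageι_assoc, pullback.lift_fst_assoc, pullback.lift_snd]
  have htp₂ : m.toImage ≫ p₂ = i₂ ≫ k₂' := by
    simp only [p₂]; rw [Scheme.Hom.toImage_imageι_assoc, pullback.lift_snd]
  have hsq₁ : r ≫ q₁ = p₁ ≫ d₁ := ext_dom m.toImage s₁ _ _ (by rw [Category.assoc r q₁, hq₁]; exact hp₁.symm.trans (Category.assoc p₁ d₁ s₁).symm)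
    (by rw [← Category.assoc, htr, ht₁, ← Category.assoc, htp₁, Category.assoc, hkd₁])
  have hsq₂ : r ≫ q₂ = p₂ ≫ d₂ := ext_dom m.toImage s₂ _ _ (by rw [Category.assoc r q₂, hq₂]; exact hp₂.symm.trans (Category.assoc p₂ d₂ s₂).symm)
    (by rw [← Category.assoc, htr, ht₂, ← Category.assoc, htp₂, Category.assoc, hkd₂])
  have hub : u ≫ b ≫ R₀.ι = m.toImage ≫ r := by rw [← Category.assoc, hu, ht₀, htr]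
  obtain ⟨hR₁, e, he₁⟩ := side_claims sG s₁ m.toImage r p₁ d₁ q₁ hsq₁ hq₁ M₁ R₀ π₁ hπ₁ b j₁ c₁ w₁ o₁ hod₁ hor₁ u hub
    (hu₁.trans htp₁.symm)
  obtain ⟨hR₂, -, -⟩ := side_claims sG s₂ m.toImage r p₂ d₂ q₂ hsq₂ hq₂ M₂ R₀ π₂ hπ₂ b j₂ c₂ w₂ o₂ hod₂ hor₂ u hub
    (hu₂.trans htp₂.symm)
  have hZS₁ : (j₁ ≫ o₁) ≫ d₁ ≫ s₁ = b ≫ R₀.ι ≫ sG := by
    rw [Category.assoc, reassoc_of% hod₁, ← reassoc_of% w₁, reassoc_of% hπ₁, hq₁]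
  have hZS₂ : (j₂ ≫ o₂) ≫ d₂ ≫ s₂ = b ≫ R₀.ι ≫ sG := by
    rw [Category.assoc, reassoc_of% hod₂, ← reassoc_of% w₂, reassoc_of% hπ₂, hq₂]
  have he₂ : e ≫ j₂ ≫ o₂ = (r ⁻¹ᵁ R₀).ι ≫ p₂ := by
    obtain ⟨t', ht', _⟩ := exists_lift_dominant m.toImage (r ⁻¹ᵁ R₀) (fun x => by
      show r (m.toImage x) ∈ R₀
      rw [← Scheme.Hom.comp_apply, htr]; exact htR x)
    refine ext_dom t' (d₂ ≫ s₂) _ _ ?_ ?_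
    · calc (e ≫ j₂ ≫ o₂) ≫ d₂ ≫ s₂ = e ≫ b ≫ R₀.ι ≫ sG := by rw [Category.assoc, hZS₂]
        _ = (e ≫ j₁ ≫ o₁) ≫ d₁ ≫ s₁ := by rw [Category.assoc, hZS₁]
        _ = _ := by rw [he₁, Category.assoc, hp₁, Category.assoc, hp₂]
    · have : t' ≫ e = u := by
        rw [← cancel_mono (j₁ ≫ o₁), Category.assoc, he₁, ← Category.assoc, ht', hu₁, htp₁]
      rw [← Category.assoc, this, hu₂, ← Category.assoc, ht', htp₂]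
  refine ⟨Y₁', Y₂', Z, k₁', k₂', d₁ ≫ s₁, d₂ ≫ s₂, j₁ ≫ o₁, j₂ ≫ o₂, u, hk₁', hk₂', inferInstance, inferInstance,
    inferInstance, inferInstance, m.image, sG', inferInstance, p₁, p₂, m.toImage, d₁ ⁻¹' L₁, d₂ ⁻¹' L₂, r ⁻¹ᵁ R₀, e,
    by rw [reassoc_of% hkd₁], by rw [reassoc_of% hkd₂], hp₁, hp₂, hZS₁.trans hZS₂.symm, hd₁', hd₂', htp₁, htp₂, hu₁, hu₂,
    hL₁.preimage d₁.continuous, hL₂.preimage d₂.continuous, ?_, ?_, ?_, ?_, ?_, ?_, ?_, ?_, he₁, he₂⟩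
  · have e₁ : p₁ ⁻¹' (d₁ ⁻¹' L₁) = r ⁻¹' (q₁ ⁻¹' L₁) := by ext x; show d₁ (p₁ x) ∈ L₁ ↔ q₁ (r x) ∈ L₁; rw [← Scheme.Hom.comp_apply, ← Scheme.Hom.comp_apply r, hsq₁]
    have e₂ : p₂ ⁻¹' (d₂ ⁻¹' L₂) = r ⁻¹' (q₂ ⁻¹' L₂) := by ext x; show d₂ (p₂ x) ∈ L₂ ↔ q₂ (r x) ∈ L₂; rw [← Scheme.Hom.comp_apply, ← Scheme.Hom.comp_apply r, hsq₂]
    rw [e₁, e₂]; exact hL.preimage r
  · refine Set.disjoint_left.2 fun y hy hy' => ?_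
    have : y ∈ Set.range o₁ := by obtain ⟨z, rfl⟩ := hy'; exact ⟨j₁ z, rfl⟩
    rw [hor₁] at this
    exact this hy
  · refine Set.disjoint_left.2 fun y hy hy' => ?_
    have : y ∈ Set.range o₂ := by obtain ⟨z, rfl⟩ := hy'; exact ⟨j₂ z, rfl⟩
    rw [hor₂] at this
    exact this hy
  · rintro y ⟨⟨v, rfl⟩, hy⟩
    refine hLZ₁ ⟨⟨v, by rw [← hkd₁]; rfl⟩, fun ⟨x, hx⟩ => hy ⟨x, congrArg k₁' (k₁.isOpenEmbedding.injective ?_ : i₁ x = v)⟩⟩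
    show (i₁ ≫ k₁) x = k₁ v
    rw [hx, ← hkd₁]; rfl
  · rintro y ⟨⟨v, rfl⟩, hy⟩
    refine hLZ₂ ⟨⟨v, by rw [← hkd₂]; rfl⟩, fun ⟨x, hx⟩ => hy ⟨x, congrArg k₂' (k₂.isOpenEmbedding.injective ?_ : i₂ x = v)⟩⟩
    show (i₂ ≫ k₂) x = k₂ v
    rw [hx, ← hkd₂]; rfl
  · ext x
    show (q₁ (r x) ∉ L₁ ∧ q₂ (r x) ∉ L₂) ↔ ¬ (d₁ (p₁ x) ∈ L₁ ∨ d₂ (p₂ x) ∈ L₂)
    rw [← Scheme.Hom.comp_apply r, ← Scheme.Hom.comp_apply r, hsq₁, hsq₂, not_or]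
    rfl
  · rw [← hR₁]; rfl
  · rw [← hR₂]; rfl

end Groth.Agent.Nagata4
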