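import Groth.Agent.Lib.Nagata4.Union
import Groth.Agent.Lib.Nagata4.AffineComp
import Mathlib.AlgebraicGeometry.Limits

/-!
# Nagata compactification over a noetherian base
-/

set_option autoImplicit false
set_option backward.isDefEq.respectTransparency false
universe u

open CategoryTheory CategoryTheory.Limits AlgebraicGeometry TopologicalSpace

namespace Groth.Agent.Nagata4

variable {S : Scheme.{u}}

/-- Every point of a noetherian scheme lies in a dense affine open. -/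
theorem exists_dense_affine {X : Scheme.{u}} [IsNoetherian X] (x : X) :
    ∃ W : X.Opens, IsAffineOpen W ∧ Dense (W : Set X) ∧ x ∈ W := by
  obtain ⟨_, ⟨W₀, hW₀, rfl⟩, hx, -⟩ := X.isBasis_affineOpens.exists_subset_of_mem_open (Set.mem_univ x) isOpen_univ
  obtain ⟨W, ⟨hW, hxW⟩, hmax⟩ := (wellFounded_gt (α := X.Opens)).has_min {W | IsAffineOpen W ∧ x ∈ W} ⟨W₀, hW₀, hx⟩
  refine ⟨W, hW, ?_, hxW⟩
  by_contra hd
  obtain ⟨y, hy⟩ := (Set.ne_univ_iff_exists_notMem _).1 fun h => hd (dense_iff_closure_eq.2 h)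
  obtain ⟨_, ⟨V, hV, rfl⟩, hyV, hVle⟩ := X.isBasis_affineOpens.exists_subset_of_mem_open hy isClosed_closure.isOpen_compl
  have hdis : Disjoint W V := by
    rw [disjoint_iff_inf_le]
    rintro z ⟨hzW, hzV⟩
    exact (hVle hzV (subset_closure hzW)).elim
  exact hmax (W ⊔ V) ⟨hW.sup_of_disjoint hV hdis, Or.inl hxW⟩
    (lt_of_le_of_ne le_sup_left fun h => hy (subset_closure (h ▸ (Or.inr hyV : y ∈ W ⊔ V))))

/-- Compactifiable opens. -/
def HasComp {X : Scheme.{u}} (g : X ⟶ S) : Prop :=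
  ∃ (Y : Scheme.{u}) (j : X ⟶ Y) (p : Y ⟶ S), IsOpenImmersion j ∧ QuasiCompact j ∧ IsProper p ∧ j ≫ p = g

theorem HasComp.of_iso {X X' : Scheme.{u}} {g : X ⟶ S} (h : HasComp g) (e : X' ⟶ X) [IsIso e] :
    HasComp (e ≫ g) := by
  obtain ⟨Y, j, p, hj, hjc, hp, hjp⟩ := h
  exact ⟨Y, e ≫ j, p, inferInstance, inferInstance, hp, by rw [Category.assoc, hjp]⟩

theorem hasComp_sub {X : Scheme.{u}} (g : X ⟶ S) (U V : X.Opens) (hVU : V ≤ U) (h : HasComp (V.ι ≫ g)) :
    HasComp ((U.ι ⁻¹ᵁ V).ι ≫ U.ι ≫ g) := by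
  have he : IsIso (U.ι ∣_ V) := by
    have : Epi (U.ι ∣_ V).base := by
      rw [TopCat.epi_iff_surjective]
      rintro ⟨x, hx⟩
      refine ⟨⟨⟨x, hVU hx⟩, hx⟩, V.ι.isOpenEmbedding.injective ?_⟩
      rw [← Scheme.Hom.comp_apply, morphismRestrict_ι]
      rfl
    exact IsOpenImmersion.isIso _
  have := h.of_iso (U.ι ∣_ V)
  rwa [morphismRestrict_ι_assoc] at this

theorem hasComp_sup [IsNoetherian S] {X : Scheme.{u}} [IsNoetherian X] (g : X ⟶ S) [IsSeparated g] [LocallyOfFiniteType g]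
    [QuasiCompact g] (V W : X.Opens) (hV : Dense (V : Set X)) (hW : Dense (W : Set X))
    (h₁ : HasComp (V.ι ≫ g)) (h₂ : HasComp (W.ι ≫ g)) : HasComp ((V ⊔ W).ι ≫ g) := by
  let U := V ⊔ W
  have hd : Dense ((U.ι ⁻¹ᵁ V ⊓ U.ι ⁻¹ᵁ W : U.toScheme.Opens) : Set U.toScheme) :=
    ((hV.inter_of_isOpen_left hW V.2).preimage U.ι.isOpenEmbedding.isOpenMap).mono fun x hx => hx
  haveI : QuasiCompact (U.ι ≫ g) := inferInstance
  exact exists_compactification_union (U.ι ≫ g) (U.ι ⁻¹ᵁ V) (U.ι ⁻¹ᵁ W)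
    (top_le_iff.1 fun x _ => x.2.elim Or.inl Or.inr) hd (hasComp_sub g U V le_sup_left h₁)
    (hasComp_sub g U W le_sup_right h₂)

theorem hasComp_of_noetherian [IsNoetherian S] {X : Scheme.{u}} (g : X ⟶ S) [IsSeparated g] [LocallyOfFiniteType g]
    [QuasiCompact g] : HasComp g := by
  classical
  haveI : IsLocallyNoetherian X := LocallyOfFiniteType.isLocallyNoetherian g
  haveI : CompactSpace X := QuasiCompact.compactSpace_of_compactSpace g
  haveI : IsNoetherian X := ⟨⟩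
  choose W hWa hWd hWx using exists_dense_affine (X := X)
  obtain ⟨t, ht⟩ := isCompact_univ.elim_finite_subcover (fun x => (W x : Set X)) (fun x => (W x).2)
    (fun x _ => Set.mem_iUnion.2 ⟨x, hWx x⟩)
  have haff : ∀ x, HasComp ((W x).ι ≫ g) := fun x => by
    haveI : IsAffine (W x).toScheme := hWa x
    exact exists_affine_compactification _
  rcases isEmpty_or_nonempty X with hX | ⟨⟨x₀⟩⟩
  · haveI : IsAffine X := inferInstance
    exact exists_affine_compactification g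
  have key : ∀ s : Finset X, ∃ V : X.Opens, Dense (V : Set X) ∧ W x₀ ≤ V ∧ (∀ x ∈ s, W x ≤ V) ∧ HasComp (V.ι ≫ g) := by
    intro s
    induction s using Finset.induction with
    | empty => exact ⟨W x₀, hWd x₀, le_rfl, by simp, haff x₀⟩
    | @insert a s ha ih =>
      obtain ⟨V, hVd, hV₀, hVs, hVc⟩ := ih
      refine ⟨V ⊔ W a, hVd.mono Set.subset_union_left, hV₀.trans le_sup_left, fun x hx => ?_,
        hasComp_sup g V (W a) hVd (hWd a) hVc (haff a)⟩
      rcases Finset.mem_insert.1 hx with rfl | hx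
      exacts [le_sup_right, (hVs x hx).trans le_sup_left]
  obtain ⟨V, -, -, hVs, hVc⟩ := key t
  have htop : V = ⊤ := top_le_iff.1 fun x _ => by
    obtain ⟨y, hy, hxy⟩ := Set.mem_iUnion₂.1 (ht (Set.mem_univ x))
    exact hVs y hy hxy
  subst htop
  have := hVc.of_iso X.topIso.inv
  rwa [← Scheme.topIso_hom, Iso.inv_hom_id_assoc] at this

end Groth.Agent.Nagata4
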