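import Groth.Agent.Lib.BlowUpExist.Proper
import Groth.Agent.Lib.EffCartier.FiniteType

/-!
# The two residual loci of a blow-up in a sum of two ideals
-/

set_option autoImplicit false
set_option backward.isDefEq.respectTransparency false
universe u

open CategoryTheory CategoryTheory.Limits AlgebraicGeometry TopologicalSpace
open scoped nonZeroDivisors

namespace Groth.Agent.Nagata4

variable {X Y : Scheme.{u}}

/-- The largest open where `A` generates the effective Cartier ideal `E`: pointwise form. -/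
theorem exists_generates (A B : Y.IdealSheafData) (h : BlowUp.IsEffCartierIdeal (A ⊔ B)) (y : Y) :
    ∃ D : Y.affineOpens, y ∈ D.1 ∧ (B.ideal D ≤ A.ideal D ∨ A.ideal D ≤ B.ideal D) := by
  obtain ⟨V, hyV, e, he, hI⟩ := h y
  rw [Scheme.IdealSheafData.ideal_sup] at hI
  obtain ⟨a, ha, b, hb, hsum⟩ := Submodule.mem_sup.1 (hI.ge (Ideal.mem_span_singleton_self e))
  obtain ⟨a', rfl⟩ := Ideal.mem_span_singleton.1 (hI.le (Submodule.mem_sup_left ha))
  obtain ⟨b', rfl⟩ := Ideal.mem_span_singleton.1 (hI.le (Submodule.mem_sup_right hb))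
  have hone : a' + b' = 1 := (mul_cancel_left_mem_nonZeroDivisors he).1 (by rw [mul_add, hsum, mul_one])
  have key : ∀ (K L : Y.IdealSheafData) (c : Γ(Y, V.1)), e * c ∈ K.ideal V → L.ideal V ≤ Ideal.span {e} →
      (L.ideal (Y.affineBasicOpen c)) ≤ K.ideal (Y.affineBasicOpen c) := by
    intro K L c hc hL
    rw [← L.map_ideal_basicOpen V c, ← K.map_ideal_basicOpen V c]
    refine (Ideal.map_mono hL).trans ?_
    rw [Ideal.map_span, Set.image_singleton, Ideal.span_singleton_le_iff_mem]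
    have h1 := Ideal.mem_map_of_mem (Y.presheaf.map (homOfLE (Y.basicOpen_le c)).op).hom hc
    rw [map_mul] at h1
    exact (Ideal.mul_unit_mem_iff_mem _ (RingedSpace.isUnit_res_basicOpen _ c)).1 h1
  have : y ∈ Y.basicOpen a' ∨ y ∈ Y.basicOpen b' := by
    by_contra hne
    push Not at hne
    have h1 : Y.presheaf.germ V.1 y hyV (a' + b') ∈ IsLocalRing.maximalIdeal _ := by
      rw [map_add]
      exact add_mem (fun hu => hne.1 ((Scheme.mem_basicOpen _ _ _ hyV).2 hu))
        (fun hu => hne.2 ((Scheme.mem_basicOpen _ _ _ hyV).2 hu))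
    rw [hone, map_one] at h1
    exact IsLocalRing.notMem_maximalIdeal.mpr isUnit_one h1
  rcases this with h1 | h1
  · exact ⟨Y.affineBasicOpen a', h1, Or.inl (key A B a' ha (le_sup_right.trans hI.le))⟩
  · exact ⟨Y.affineBasicOpen b', h1, Or.inr (key B A b' hb (le_sup_left.trans hI.le))⟩

/-- The locus where `A` does not generate `A ⊔ B`. -/
def resid (A B : Y.IdealSheafData) : Set Y :=
  {y | ∀ D : Y.affineOpens, y ∈ D.1 → ¬ B.ideal D ≤ A.ideal D}

theorem isClosed_resid (A B : Y.IdealSheafData) : IsClosed (resid A B) := by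
  rw [← isOpen_compl_iff, isOpen_iff_forall_mem_open]
  intro y hy
  simp only [resid, Set.mem_compl_iff, Set.mem_setOf_eq, not_forall, not_not] at hy
  obtain ⟨D, hyD, hle⟩ := hy
  exact ⟨D.1, fun z hz hz' => hz' D hz hle, D.1.2, hyD⟩

theorem disjoint_resid {A B : Y.IdealSheafData} (h : BlowUp.IsEffCartierIdeal (A ⊔ B)) :
    Disjoint (resid A B) (resid B A) := by
  refine Set.disjoint_left.2 fun y hy hy' => ?_
  obtain ⟨D, hyD, hle | hle⟩ := exists_generates A B h y
  · exact hy D hyD hle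
  · exact hy' D hyD hle

theorem exists_le_of_mem_resid {A B : Y.IdealSheafData} (h : BlowUp.IsEffCartierIdeal (A ⊔ B)) {y : Y}
    (hy : y ∈ resid A B) : ∃ D : Y.affineOpens, y ∈ D.1 ∧ A.ideal D ≤ B.ideal D := by
  obtain ⟨D, hyD, hle | hle⟩ := exists_generates A B h y
  · exact absurd hle (hy D hyD)
  · exact ⟨D, hyD, hle⟩

theorem mem_resid {A B : Y.IdealSheafData} {y : Y} (hA : y ∈ (A.support : Set Y)) (hB : y ∉ (B.support : Set Y)) :
    y ∈ resid A B := fun D hyD hle => by
  refine hB ?_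
  rw [SetLike.mem_coe, Scheme.IdealSheafData.mem_support_iff_of_mem hyD] at hA ⊢
  exact Scheme.zeroLocus_mono _ hle hA

theorem resid_subset {A B : Y.IdealSheafData} : resid A B ⊆ (A.support : Set Y) := fun y hy => by
  by_contra h
  obtain ⟨_, ⟨(D : Y.Opens), hD, rfl⟩, hyD, hle⟩ := Y.isBasis_affineOpens.exists_subset_of_mem_open
    (show y ∈ EffCartier.cmpl A from h) (EffCartier.cmpl A).2
  haveI : IsAffine (D : Scheme.{u}) := hD
  refine hy ⟨D, hD⟩ hyD ?_
  have h1 : A.comap D.ι = ⊤ := EffCartier.comap_eq_top _ _ fun x hx => hle x.2 hx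
  have h2 := EffCartier.comap_ideal A D.ι ⟨D, hD⟩ ⟨⊤, isAffineOpen_top _⟩ (fun z _ => z.2)
  rw [h1, Scheme.IdealSheafData.ideal_top, Pi.top_apply, BlowUpExist.ι_appLE_self] at h2
  obtain ⟨a, ha, ha'⟩ := (Ideal.mem_map_iff_of_surjective _ (ConcreteCategory.bijective_of_isIso D.topIso.inv).2).1
    (h2.le (Submodule.mem_top (x := 1)))
  rw [(ConcreteCategory.bijective_of_isIso D.topIso.inv).1 (ha'.trans (map_one _).symm)] at ha
  exact fun x _ => (Ideal.eq_top_iff_one _).2 ha ▸ Submodule.mem_top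

end Groth.Agent.Nagata4
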