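import Groth.Agent.Lib.Nagata4.Start

/-!
# Compactifications of two pieces whose outer parts have separated closures
-/

set_option autoImplicit false
set_option backward.isDefEq.respectTransparency false
universe u

open CategoryTheory CategoryTheory.Limits AlgebraicGeometry TopologicalSpace

namespace Groth.Agent.Nagata4

variable {S U : Scheme.{u}}

theorem exists_separated [IsNoetherian S] [IsNoetherian U] (g : U ⟶ S) [IsSeparated g] (U₁ U₂ : U.Opens)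
    (hdense : Dense ((U₁ ⊓ U₂ : U.Opens) : Set U))
    (h₁ : ∃ (Y : Scheme.{u}) (j : (U₁ : Scheme.{u}) ⟶ Y) (p : Y ⟶ S), IsOpenImmersion j ∧ QuasiCompact j ∧ IsProper p ∧ j ≫ p = U₁.ι ≫ g)
    (h₂ : ∃ (Y : Scheme.{u}) (j : (U₂ : Scheme.{u}) ⟶ Y) (p : Y ⟶ S), IsOpenImmersion j ∧ QuasiCompact j ∧ IsProper p ∧ j ≫ p = U₂.ι ≫ g) :
    ∃ (Y₁ Y₂ : Scheme.{u}) (k₁ : (U₁ : Scheme.{u}) ⟶ Y₁) (k₂ : (U₂ : Scheme.{u}) ⟶ Y₂)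
      (s₁ : Y₁ ⟶ S) (s₂ : Y₂ ⟶ S) (_ : IsOpenImmersion k₁) (_ : IsOpenImmersion k₂) (_ : IsProper s₁) (_ : IsProper s₂)
      (G : Scheme.{u}) (sG : G ⟶ S) (_ : IsProper sG) (q₁ : G ⟶ Y₁) (q₂ : G ⟶ Y₂)
      (t : ((U₁ ⊓ U₂ : U.Opens) : Scheme.{u}) ⟶ G) (_ : IsSchemeTheoreticallyDominant t) (_ : QuasiCompact t)
      (L₁ : Set Y₁) (L₂ : Set Y₂),
      k₁ ≫ s₁ = U₁.ι ≫ g ∧ k₂ ≫ s₂ = U₂.ι ≫ g ∧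
      Dense (Set.range (U.homOfLE (inf_le_left : U₁ ⊓ U₂ ≤ U₁) ≫ k₁)) ∧
      Dense (Set.range (U.homOfLE (inf_le_right : U₁ ⊓ U₂ ≤ U₂) ≫ k₂)) ∧
      q₁ ≫ s₁ = sG ∧ q₂ ≫ s₂ = sG ∧
      t ≫ q₁ = U.homOfLE inf_le_left ≫ k₁ ∧ t ≫ q₂ = U.homOfLE inf_le_right ≫ k₂ ∧
      IsClosed L₁ ∧ IsClosed L₂ ∧ Disjoint (q₁ ⁻¹' L₁) (q₂ ⁻¹' L₂) ∧
      Disjoint L₁ (Set.range (U.homOfLE (inf_le_left : U₁ ⊓ U₂ ≤ U₁) ≫ k₁)) ∧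
      Disjoint L₂ (Set.range (U.homOfLE (inf_le_right : U₁ ⊓ U₂ ≤ U₂) ≫ k₂)) ∧
      outer (U.homOfLE (inf_le_left : U₁ ⊓ U₂ ≤ U₁)) k₁ ⊆ L₁ ∧
      outer (U.homOfLE (inf_le_right : U₁ ⊓ U₂ ≤ U₂)) k₂ ⊆ L₂ := by
  haveI : CompactSpace ((U₁ ⊓ U₂ : U.Opens) : Scheme.{u}) :=
    isCompact_iff_compactSpace.1 (NoetherianSpace.isCompact ((U₁ ⊓ U₂ : U.Opens) : Set U))
  obtain ⟨Y₁, k₁, s₁, hk₁, hs₁, hdk₁, e₁⟩ := exists_dense_compactification (U₁.ι ≫ g) h₁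
  obtain ⟨Y₂, k₂, s₂, hk₂, hs₂, hdk₂, e₂⟩ := exists_dense_compactification (U₂.ι ≫ g) h₂
  obtain ⟨G₀, sG₀, hsG₀, p₁, p₂, t₀, B, hp₁, hp₂, ht₁, ht₂, hB, hBd, hBs⟩ := exists_start g U₁ U₂ k₁ k₂ s₁ s₂ e₁ e₂
  obtain ⟨Y₁', k₁', s₁', hk₁', hs₁', G₁, sG₁, hsG₁, r₁, q₁, t₁, ht₁', hqc₁, L₁, ek₁, hd₁, hr₁, hq₁, htr₁, htq₁, hL₁, hD₁, hL₁O, hL₁Z⟩ :=
    exists_step (U.homOfLE (inf_le_left : U₁ ⊓ U₂ ≤ U₁)) k₁ s₁ (dense_range_inter _ hdense k₁) sG₀ p₁ hp₁ t₀ ht₁ B hB hBd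
  obtain ⟨Y₂', k₂', s₂', hk₂', hs₂', G₂, sG₂, hsG₂, r₂, q₂, t₂, ht₂', hqc₂, L₂, ek₂, hd₂, hr₂, hq₂, htr₂, htq₂, hL₂, hD₂, hL₂O, hL₂Z⟩ :=
    exists_step (U.homOfLE (inf_le_right : U₁ ⊓ U₂ ≤ U₂)) k₂ s₂ (dense_range_inter _ hdense k₂) sG₁ (r₁ ≫ p₂)
      (by rw [Category.assoc, hp₂, hr₁]) t₁ (by rw [← Category.assoc, htr₁, ht₂]) (q₁ ⁻¹' L₁) (hL₁.preimage q₁.continuous)
      (hD₁.symm.mono_right (closure_minimal (fun x hx => hBs hx) (hB.preimage r₁.continuous)))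
  exact ⟨Y₁', Y₂', k₁', k₂', s₁', s₂', hk₁', hk₂', hs₁', hs₂', G₂, sG₂, hsG₂, r₂ ≫ q₁, q₂, t₂, ht₂', hqc₂, L₁, L₂,
    ek₁.trans e₁, ek₂.trans e₂, hd₁, hd₂, by rw [Category.assoc, hq₁, hr₂], hq₂,
    by rw [← Category.assoc, htr₂, htq₁], htq₂, hL₁, hL₂, hD₂, hL₁O, hL₂O, hL₁Z, hL₂Z⟩

end Groth.Agent.Nagata4
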