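import Groth.Agent.Lib.Nagata4.Basics
import Groth.Agent.S8857

/-!
# One side of the union of two compactifications
-/

set_option autoImplicit false
set_option backward.isDefEq.respectTransparency false
universe u

open CategoryTheory CategoryTheory.Limits AlgebraicGeometry TopologicalSpace

namespace Groth.Agent.Nagata4

variable {S : Scheme.{u}}

theorem exists_dense_compactification [IsNoetherian S] {U : Scheme.{u}} (gU : U ⟶ S)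
    (h : ∃ (Y : Scheme.{u}) (j : U ⟶ Y) (p : Y ⟶ S), IsOpenImmersion j ∧ QuasiCompact j ∧ IsProper p ∧ j ≫ p = gU) :
    ∃ (Y : Scheme.{u}) (k : U ⟶ Y) (s : Y ⟶ S) (_ : IsOpenImmersion k) (_ : IsProper s),
      IsDominant k ∧ k ≫ s = gU := by
  obtain ⟨Y, j, p, hj, hjc, hp, hjp⟩ := h
  exact ⟨j.image, j.toImage, j.imageι ≫ p, inferInstance, inferInstance, inferInstance,
    by rw [Scheme.Hom.toImage_imageι_assoc, hjp]⟩

/-- Two open pieces of a separated scheme: the closure of their intersection only contains diagonal points. -/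
theorem graph_eq {U G Y₁ Y₂ O : Scheme.{u}} (g : U ⟶ S) [IsSeparated g] {U₁ U₂ : U.Opens}
    (k₁ : (U₁ : Scheme.{u}) ⟶ Y₁) (k₂ : (U₂ : Scheme.{u}) ⟶ Y₂) [IsOpenImmersion k₁] [IsOpenImmersion k₂]
    (s₁ : Y₁ ⟶ S) (s₂ : Y₂ ⟶ S) (h₁ : k₁ ≫ s₁ = U₁.ι ≫ g) (h₂ : k₂ ≫ s₂ = U₂.ι ≫ g)
    (p₁ : G ⟶ Y₁) (p₂ : G ⟶ Y₂) (hS : p₁ ≫ s₁ = p₂ ≫ s₂)
    (t : O ⟶ G) [IsSchemeTheoreticallyDominant t] [QuasiCompact t] (i₁ : O ⟶ (U₁ : Scheme.{u})) (i₂ : O ⟶ (U₂ : Scheme.{u}))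
    (hi : i₁ ≫ U₁.ι = i₂ ≫ U₂.ι) (ht₁ : t ≫ p₁ = i₁ ≫ k₁) (ht₂ : t ≫ p₂ = i₂ ≫ k₂)
    (γ : G) (u₁ : U₁) (u₂ : U₂) (hu₁ : p₁ γ = k₁ u₁) (hu₂ : p₂ γ = k₂ u₂) : (u₁.1 : U) = u₂.1 := by
  let Ω := p₁ ⁻¹ᵁ k₁.opensRange ⊓ p₂ ⁻¹ᵁ k₂.opensRange
  obtain ⟨t', ht', _⟩ := exists_lift_dominant t Ω (fun x => ⟨⟨i₁ x, by rw [← Scheme.Hom.comp_apply, ← ht₁]; rfl⟩,
    ⟨i₂ x, by rw [← Scheme.Hom.comp_apply, ← ht₂]; rfl⟩⟩)
  let f₁ : (Ω : Scheme.{u}) ⟶ (U₁ : Scheme.{u}) := IsOpenImmersion.lift k₁ (Ω.ι ≫ p₁) (by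
    rintro _ ⟨z, rfl⟩; exact z.2.1)
  let f₂ : (Ω : Scheme.{u}) ⟶ (U₂ : Scheme.{u}) := IsOpenImmersion.lift k₂ (Ω.ι ≫ p₂) (by
    rintro _ ⟨z, rfl⟩; exact z.2.2)
  have hf₁ : f₁ ≫ k₁ = Ω.ι ≫ p₁ := IsOpenImmersion.lift_fac _ _ _
  have hf₂ : f₂ ≫ k₂ = Ω.ι ≫ p₂ := IsOpenImmersion.lift_fac _ _ _
  have e₁ : t' ≫ f₁ = i₁ := by rw [← cancel_mono k₁, Category.assoc, hf₁, ← Category.assoc, ht', ht₁]
  have e₂ : t' ≫ f₂ = i₂ := by rw [← cancel_mono k₂, Category.assoc, hf₂, ← Category.assoc, ht', ht₂]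
  have heq : f₁ ≫ U₁.ι = f₂ ≫ U₂.ι := ext_dom t' g _ _
    (by rw [Category.assoc, Category.assoc, ← h₁, ← h₂, reassoc_of% hf₁, reassoc_of% hf₂, hS])
    (by rw [← Category.assoc, ← Category.assoc, e₁, e₂, hi])
  have hγ : γ ∈ Ω := ⟨⟨u₁, hu₁.symm⟩, ⟨u₂, hu₂.symm⟩⟩
  have a₁ : f₁ ⟨γ, hγ⟩ = u₁ := k₁.isOpenEmbedding.injective (by rw [← Scheme.Hom.comp_apply, hf₁]; exact hu₁)
  have a₂ : f₂ ⟨γ, hγ⟩ = u₂ := k₂.isOpenEmbedding.injective (by rw [← Scheme.Hom.comp_apply, hf₂]; exact hu₂)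
  have := congrArg (fun φ : (Ω : Scheme.{u}) ⟶ U => φ ⟨γ, hγ⟩) heq
  simp only [Scheme.Hom.comp_apply, a₁, a₂] at this
  exact this

/-- A centre on an open, trivial on the intersection with `R`, extends to an `R`-admissible centre with the same blow-up. -/
theorem exists_extend_side {Y' Yt : Scheme.{u}} [CompactSpace Y'] [QuasiSeparatedSpace Y'] (R M : Y'.Opens)
    (hR : IsCompact (R : Set Y')) (hM : IsCompact (M : Set Y')) (J : (M : Scheme.{u}).IdealSheafData)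
    (hJ : BlowUp.IsAdmissibleFor (M.ι ⁻¹ᵁ R) J) (c : Yt ⟶ (M : Scheme.{u})) (hc : BlowUp.IsBlowUp c J) :
    ∃ (K : Y'.IdealSheafData) (Y'' : Scheme.{u}) (d : Y'' ⟶ Y') (o : Yt ⟶ Y''),
      BlowUp.IsAdmissibleFor R K ∧ BlowUp.IsBlowUp d K ∧ IsProper d ∧ IsOpenImmersion o ∧
        o ≫ d = c ≫ M.ι ∧ Set.range o = d ⁻¹' (M : Set Y') := by
  obtain ⟨K, hK, -, hKb⟩ := Groth.Agent.S8857.result Y' R M hR hM J hJ
  have hd : BlowUp.IsBlowUp (BlowUpExist.ChartIdx.blowUpHom K) K := BlowUpExist.ChartIdx.isBlowUp_blowUpHom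
  obtain ⟨e, he, hec⟩ := AdmOpen4.exists_iso_of_isBlowUp hc (hKb _ _ hd)
  refine ⟨K, _, _, e ≫ (BlowUpExist.ChartIdx.blowUpHom K ⁻¹ᵁ M).ι, hK, hd, BlowUpExist.isProper hK.1 hd, inferInstance,
    by rw [Category.assoc, ← morphismRestrict_ι, ← Category.assoc, hec], ?_⟩
  rw [Scheme.Hom.comp_base, TopCat.coe_comp, Set.range_comp,
    Set.range_eq_univ.2 (show Function.Surjective e from e.homeomorph.surjective), Set.image_univ, Scheme.Opens.range_ι]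
  rfl

/-- Over the common open the closure of the diagonal is the common open. -/
theorem side_claims {O G G' Y' Y'' Z Yt : Scheme.{u}} (sG' : G' ⟶ S) [IsSeparated sG'] (sY' : Y' ⟶ S) [IsSeparated sY']
    (t : O ⟶ G) [IsSchemeTheoreticallyDominant t] [QuasiCompact t]
    (r : G ⟶ G') (p : G ⟶ Y'') (d : Y'' ⟶ Y') (q : G' ⟶ Y') (hsq : r ≫ q = p ≫ d) (hq : q ≫ sY' = sG')
    (M : Y'.Opens) (R₀ : G'.Opens) (π : (R₀ : Scheme.{u}) ⟶ (M : Scheme.{u})) (hπ : π ≫ M.ι = R₀.ι ≫ q)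
    (b : Z ⟶ (R₀ : Scheme.{u})) (j : Z ⟶ Yt) [IsOpenImmersion j] (c : Yt ⟶ (M : Scheme.{u})) (w : b ≫ π = j ≫ c)
    [IsClosedImmersion (pullback.lift b j w)]
    (o : Yt ⟶ Y'') [IsOpenImmersion o] (ho : o ≫ d = c ≫ M.ι) (hor : Set.range o = d ⁻¹' (M : Set Y'))
    (u : O ⟶ Z) (hu₁ : u ≫ b ≫ R₀.ι = t ≫ r) (hu₂ : u ≫ j ≫ o = t ≫ p) :
    p ⁻¹ᵁ (j ≫ o).opensRange = r ⁻¹ᵁ R₀ ∧ ∃ e : ((r ⁻¹ᵁ R₀ : G.Opens) : Scheme.{u}) ⟶ Z,
      e ≫ j ≫ o = (r ⁻¹ᵁ R₀).ι ≫ p := by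
  have h1 : r ⁻¹ᵁ R₀ ≤ p ⁻¹ᵁ (j ≫ o).opensRange := by
    let Ω := r ⁻¹ᵁ R₀
    obtain ⟨t', ht', _⟩ := exists_lift_dominant t Ω (fun x => by
      show r (t x) ∈ R₀
      rw [← Scheme.Hom.comp_apply, ← hu₁, ← Category.assoc, Scheme.Hom.comp_apply]
      exact ((u ≫ b) x).2)
    have hr : Set.range (Ω.ι ≫ p) ⊆ Set.range o := by
      rintro _ ⟨z, rfl⟩
      rw [hor]
      show d (p z.1) ∈ M
      rw [← Scheme.Hom.comp_apply, ← hsq, Scheme.Hom.comp_apply]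
      have h3 : (π ≫ M.ι) ⟨r z.1, z.2⟩ ∈ M := (π ⟨r z.1, z.2⟩).2
      rw [hπ] at h3
      exact h3
    let f := IsOpenImmersion.lift o (Ω.ι ≫ p) hr
    have hf : f ≫ o = Ω.ι ≫ p := IsOpenImmersion.lift_fac _ _ _
    let φ : (Ω : Scheme.{u}) ⟶ pullback π c := pullback.lift (r ∣_ R₀) f (by
      rw [← cancel_mono M.ι, Category.assoc, hπ, Category.assoc, morphismRestrict_ι_assoc, ← ho, reassoc_of% hf, hsq])
    have hφ : t' ≫ φ = u ≫ pullback.lift b j w := by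
      apply pullback.hom_ext
      · simp only [φ, Category.assoc, pullback.lift_fst]
        rw [← cancel_mono R₀.ι]
        simp only [Category.assoc, morphismRestrict_ι, reassoc_of% ht', hu₁]
        rw [← Category.assoc, ht']
      · simp only [φ, Category.assoc, pullback.lift_snd]
        rw [← cancel_mono o]
        simp only [Category.assoc, hf, reassoc_of% ht', hu₂]
    intro γ hγ
    haveI : QuasiCompact t' := by
      haveI : QuasiCompact (t' ≫ Ω.ι) := by rw [ht']; infer_instance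
      exact QuasiCompact.of_comp t' Ω.ι
    have hcl : φ ⟨γ, hγ⟩ ∈ Set.range (pullback.lift b j w) := by
      rw [← (pullback.lift b j w).isClosedEmbedding.isClosed_range.closure_eq]
      refine map_mem_closure φ.continuous (denseRange_of_dominant t' ⟨γ, hγ⟩) ?_
      rintro _ ⟨x, rfl⟩
      refine ⟨u x, ?_⟩
      rw [← Scheme.Hom.comp_apply, ← hφ]
      rfl
    obtain ⟨z, hz⟩ := hcl
    refine ⟨z, ?_⟩
    have h2 := congrArg (pullback.snd π c ≫ o) hz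
    rw [← Scheme.Hom.comp_apply, ← Scheme.Hom.comp_apply, pullback.lift_snd_assoc, pullback.lift_snd_assoc, hf] at h2
    exact h2
  have h2 : p ⁻¹ᵁ (j ≫ o).opensRange ≤ r ⁻¹ᵁ R₀ := by
    let W := p ⁻¹ᵁ (j ≫ o).opensRange
    obtain ⟨t', ht', _⟩ := exists_lift_dominant t W (fun x => ⟨u x, by
      rw [← Scheme.Hom.comp_apply, hu₂]; rfl⟩)
    let e := IsOpenImmersion.lift (j ≫ o) (W.ι ≫ p) (by rintro _ ⟨z, rfl⟩; exact z.2)
    have he : e ≫ j ≫ o = W.ι ≫ p := IsOpenImmersion.lift_fac _ _ _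
    have key : e ≫ b ≫ R₀.ι = W.ι ≫ r := by
      refine ext_dom t' sG' _ _ ?_ ?_
      · rw [← hq]
        simp only [Category.assoc]
        rw [reassoc_of% hsq, ← reassoc_of% hπ, reassoc_of% w, ← reassoc_of% ho, reassoc_of% he]
      · rw [← Category.assoc, show t' ≫ e = u from by
          rw [← cancel_mono (j ≫ o), Category.assoc, he, ← Category.assoc, ht', hu₂], hu₁, ← Category.assoc, ht']
    intro γ hγ
    show r γ ∈ R₀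
    rw [show r γ = (W.ι ≫ r) ⟨γ, hγ⟩ from rfl, ← key]
    exact ((e ≫ b) ⟨γ, hγ⟩).2
  refine ⟨le_antisymm h2 h1, IsOpenImmersion.lift (j ≫ o) ((r ⁻¹ᵁ R₀).ι ≫ p) ?_, IsOpenImmersion.lift_fac _ _ _⟩
  rintro _ ⟨z, rfl⟩
  exact h1 z.2

end Groth.Agent.Nagata4
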