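import Groth.Agent.Lib.Nagata4.Step

/-!
# The starting configuration and the separation of the two outer parts
-/

set_option autoImplicit false
set_option backward.isDefEq.respectTransparency false
universe u

open CategoryTheory CategoryTheory.Limits AlgebraicGeometry TopologicalSpace

namespace Groth.Agent.Nagata4

variable {S U : Scheme.{u}}

theorem range_homOfLE {V W : U.Opens} (h : V ≤ W) : Set.range (U.homOfLE h) = {w : W | w.1 ∈ V} := by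
  ext w
  constructor
  · rintro ⟨z, rfl⟩
    show W.ι (U.homOfLE h z) ∈ V
    rw [← Scheme.Hom.comp_apply, Scheme.homOfLE_ι]
    exact z.2
  · intro hw
    refine ⟨⟨w.1, hw⟩, W.ι.isOpenEmbedding.injective ?_⟩
    rw [← Scheme.Hom.comp_apply, Scheme.homOfLE_ι]
    rfl

theorem dense_range_inter {Y : Scheme.{u}} {U₁ U₁₂ : U.Opens} (h : U₁₂ ≤ U₁) (hd : Dense (U₁₂ : Set U))
    (k : (U₁ : Scheme.{u}) ⟶ Y) [IsOpenImmersion k] [IsDominant k] : Dense (Set.range (U.homOfLE h ≫ k)) := by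
  rw [Scheme.Hom.comp_base, TopCat.coe_comp, Set.range_comp, range_homOfLE]
  exact k.denseRange.dense_image k.continuous (hd.preimage U₁.ι.isOpenEmbedding.isOpenMap)

/-- The closure of the intersection, with the two outer parts separated. -/
theorem exists_start [IsNoetherian S] [IsNoetherian U] (g : U ⟶ S) [IsSeparated g] (U₁ U₂ : U.Opens)
    {Y₁ Y₂ : Scheme.{u}} (k₁ : (U₁ : Scheme.{u}) ⟶ Y₁) (k₂ : (U₂ : Scheme.{u}) ⟶ Y₂) [IsOpenImmersion k₁] [IsOpenImmersion k₂]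
    (s₁ : Y₁ ⟶ S) (s₂ : Y₂ ⟶ S) [IsProper s₁] [IsProper s₂] (h₁ : k₁ ≫ s₁ = U₁.ι ≫ g) (h₂ : k₂ ≫ s₂ = U₂.ι ≫ g) :
    ∃ (G : Scheme.{u}) (sG : G ⟶ S) (_ : IsProper sG) (p₁ : G ⟶ Y₁) (p₂ : G ⟶ Y₂)
      (t : ((U₁ ⊓ U₂ : U.Opens) : Scheme.{u}) ⟶ G) (B : Set G),
      p₁ ≫ s₁ = sG ∧ p₂ ≫ s₂ = sG ∧ t ≫ p₁ = U.homOfLE inf_le_left ≫ k₁ ∧ t ≫ p₂ = U.homOfLE inf_le_right ≫ k₂ ∧
        IsClosed B ∧ Disjoint B (closure (p₁ ⁻¹' outer (U.homOfLE (inf_le_left : U₁ ⊓ U₂ ≤ U₁)) k₁)) ∧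
        p₂ ⁻¹' outer (U.homOfLE (inf_le_right : U₁ ⊓ U₂ ≤ U₂)) k₂ ⊆ B := by
  haveI : QuasiSeparatedSpace S := inferInstance
  haveI : CompactSpace ((U₁ ⊓ U₂ : U.Opens) : Scheme.{u}) :=
    isCompact_iff_compactSpace.1 (NoetherianSpace.isCompact ((U₁ ⊓ U₂ : U.Opens) : Set U))
  let i₁ := U.homOfLE (inf_le_left : U₁ ⊓ U₂ ≤ U₁)
  let i₂ := U.homOfLE (inf_le_right : U₁ ⊓ U₂ ≤ U₂)
  have hi : i₁ ≫ U₁.ι = i₂ ≫ U₂.ι := by simp [i₁, i₂]
  have hO : (i₁ ≫ k₁) ≫ s₁ = (i₂ ≫ k₂) ≫ s₂ := by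
    rw [Category.assoc, Category.assoc, h₁, h₂, ← Category.assoc, hi, Category.assoc]
  let g₀ := pullback.lift (i₁ ≫ k₁) (i₂ ≫ k₂) hO
  let sP : g₀.image ⟶ S := g₀.imageι ≫ pullback.fst s₁ s₂ ≫ s₁
  haveI : QuasiSeparatedSpace (pullback s₁ s₂ :) := quasiSeparatedSpace_of_quasiSeparated (pullback.fst s₁ s₂ ≫ s₁)
  haveI : QuasiCompact g₀ := inferInstance
  haveI : IsLocallyNoetherian g₀.image := LocallyOfFiniteType.isLocallyNoetherian sP
  haveI := EffCartier.dominant_toImage g₀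
  let q₁ := g₀.imageι ≫ pullback.fst s₁ s₂
  let q₂ := g₀.imageι ≫ pullback.snd s₁ s₂
  have ht₁ : g₀.toImage ≫ q₁ = i₁ ≫ k₁ := by rw [Scheme.Hom.toImage_imageι_assoc, pullback.lift_fst]
  have ht₂ : g₀.toImage ≫ q₂ = i₂ ≫ k₂ := by rw [Scheme.Hom.toImage_imageι_assoc, pullback.lift_snd]
  have hqS : q₁ ≫ s₁ = q₂ ≫ s₂ := by simp only [q₁, q₂, Category.assoc, pullback.condition]
  have hgraph : ∀ γ, q₁ γ ∈ Set.range k₁ → q₂ γ ∈ Set.range k₂ → q₁ γ ∈ Set.range (i₁ ≫ k₁) ∧ q₂ γ ∈ Set.range (i₂ ≫ k₂) := by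
    rintro γ ⟨u₁, hu₁⟩ ⟨u₂, hu₂⟩
    have h := graph_eq g k₁ k₂ s₁ s₂ h₁ h₂ q₁ q₂ hqS g₀.toImage i₁ i₂ hi ht₁ ht₂ γ u₁ u₂ hu₁.symm hu₂.symm
    refine ⟨?_, ?_⟩
    · rw [Scheme.Hom.comp_base, TopCat.coe_comp, Set.range_comp, range_homOfLE]
      exact ⟨u₁, ⟨u₁.2, show u₁.1 ∈ U₂ from h ▸ u₂.2⟩, hu₁⟩
    · rw [Scheme.Hom.comp_base, TopCat.coe_comp, Set.range_comp, range_homOfLE]
      exact ⟨u₂, ⟨show u₂.1 ∈ U₁ from h ▸ u₁.2, u₂.2⟩, hu₂⟩
  let EA := Scheme.IdealSheafData.vanishingIdeal (X := g₀.image) ⟨closure (q₁ ⁻¹' outer i₁ k₁), isClosed_closure⟩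
  let EB := Scheme.IdealSheafData.vanishingIdeal (X := g₀.image) ⟨closure (q₂ ⁻¹' outer i₂ k₂), isClosed_closure⟩
  have hEA : (EA.support : Set g₀.image) = closure (q₁ ⁻¹' outer i₁ k₁) := Scheme.IdealSheafData.coe_support_vanishingIdeal _
  have hEB : (EB.support : Set g₀.image) = closure (q₂ ⁻¹' outer i₂ k₂) := Scheme.IdealSheafData.coe_support_vanishingIdeal _
  let b := BlowUpExist.ChartIdx.blowUpHom (EA ⊔ EB)
  have hb : BlowUp.IsBlowUp b (EA ⊔ EB) := BlowUpExist.ChartIdx.isBlowUp_blowUpHom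
  haveI : IsProper b := BlowUpExist.isProper (isFiniteTypeIdeal_of_noetherian _) hb
  have hbc := hb.1
  rw [Scheme.IdealSheafData.comap_sup] at hbc
  have hmem : ∀ (x : _), b x ∈ q₁ ⁻¹' outer i₁ k₁ → x ∈ resid (EA.comap b) (EB.comap b) := fun x hx => by
    refine mem_resid (by rw [Scheme.IdealSheafData.support_comap]; show b x ∈ (EA.support : Set g₀.image); rw [hEA]; exact subset_closure hx) ?_
    rw [Scheme.IdealSheafData.support_comap]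
    show b x ∉ (EB.support : Set g₀.image)
    rw [hEB]
    intro h
    obtain ⟨γ, hγ, hγ'⟩ := mem_closure_iff.1 h _ (k₁.isOpenEmbedding.isOpen_range.preimage q₁.continuous) hx.1
    exact hγ'.2 (hgraph γ hγ hγ'.1).2
  have hmem' : ∀ (x : _), b x ∈ q₂ ⁻¹' outer i₂ k₂ → x ∈ resid (EB.comap b) (EA.comap b) := fun x hx => by
    refine mem_resid (by rw [Scheme.IdealSheafData.support_comap]; show b x ∈ (EB.support : Set g₀.image); rw [hEB]; exact subset_closure hx) ?_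
    rw [Scheme.IdealSheafData.support_comap]
    show b x ∉ (EA.support : Set g₀.image)
    rw [hEA]
    intro h
    obtain ⟨γ, hγ, hγ'⟩ := mem_closure_iff.1 h _ (k₂.isOpenEmbedding.isOpen_range.preimage q₂.continuous) hx.1
    exact hγ'.2 (hgraph γ hγ'.1 hγ).1
  have heff : BlowUp.IsEffCartierIdeal ((EA ⊔ EB).comap g₀.toImage) := by
    rw [EffCartier.comap_eq_top _ _ fun x hx => ?_]
    · exact EffCartier.isEffCartierIdeal_top
    · have h := Scheme.IdealSheafData.support_antitone (le_sup_left : EA ≤ EA ⊔ EB) hx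
      change g₀.toImage x ∈ (EA.support : Set g₀.image) at h
      rw [hEA] at h
      obtain ⟨γ, hγ, hγ'⟩ := mem_closure_iff.1 h (q₁ ⁻¹' Set.range (i₁ ≫ k₁))
        ((i₁ ≫ k₁).isOpenEmbedding.isOpen_range.preimage q₁.continuous)
        ⟨x, by rw [← Scheme.Hom.comp_apply g₀.toImage q₁, ht₁]⟩
      exact hγ'.2 hγ
  obtain ⟨t', ht', -⟩ := hb.2 _ g₀.toImage heff
  refine ⟨_, b ≫ sP, inferInstance, b ≫ q₁, b ≫ q₂, t', resid (EB.comap b) (EA.comap b), ?_, ?_, ?_, ?_,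
    isClosed_resid _ _, ?_, ?_⟩
  · simp only [q₁, sP, Category.assoc]
  · rw [Category.assoc, ← hqS]; simp only [q₁, sP, Category.assoc]
  · rw [← Category.assoc, ht', ht₁]
  · rw [← Category.assoc, ht', ht₂]
  · exact (disjoint_resid hbc).symm.mono_right (closure_minimal (fun x hx => hmem x hx) (isClosed_resid _ _))
  · exact fun x hx => hmem' x hx

end Groth.Agent.Nagata4
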