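import Groth.Agent.Lib.Nagata4.Side
import Groth.Agent.Lib.Nagata4.Shrink

/-!
# One shrinking step
-/

set_option autoImplicit false
set_option backward.isDefEq.respectTransparency false
universe u

open CategoryTheory CategoryTheory.Limits AlgebraicGeometry TopologicalSpace

namespace Groth.Agent.Nagata4

variable {S : Scheme.{u}}

theorem not_mem_closure_of_mem_range {O Y : Scheme.{u}} (R : Set Y) (iO : O ⟶ Y) [IsOpenImmersion iO] {y : Y}
    (hy : y ∈ Set.range iO) : y ∉ closure (R \ Set.range iO) := fun h => by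
  obtain ⟨z, hz, -, hz'⟩ := mem_closure_iff.1 h _ iO.isOpenEmbedding.isOpen_range hy
  exact hz' hz

/-- The points of a piece outside the common open. -/
def outer {O P Y : Scheme.{u}} (i : O ⟶ P) (k : P ⟶ Y) : Set Y := Set.range k \ Set.range (i ≫ k)

/-- Blow up one compactification so that the closure of its outer part avoids `B` upstairs. -/
theorem exists_step [IsNoetherian S] {O P Y G : Scheme.{u}} [CompactSpace O] (i : O ⟶ P) [IsOpenImmersion i]
    (k : P ⟶ Y) [IsOpenImmersion k] (s : Y ⟶ S) [IsProper s] (hd : Dense (Set.range (i ≫ k)))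
    (sG : G ⟶ S) [IsProper sG] (p : G ⟶ Y) (hp : p ≫ s = sG) (t : O ⟶ G) (ht : t ≫ p = i ≫ k)
    (B : Set G) (hB : IsClosed B) (hBZ : Disjoint B (closure (p ⁻¹' outer i k))) :
    ∃ (Y' : Scheme.{u}) (k' : P ⟶ Y') (s' : Y' ⟶ S) (_ : IsOpenImmersion k') (_ : IsProper s')
      (G' : Scheme.{u}) (sG' : G' ⟶ S) (_ : IsProper sG') (r : G' ⟶ G) (q : G' ⟶ Y') (t' : O ⟶ G')
      (_ : IsSchemeTheoreticallyDominant t') (_ : QuasiCompact t') (L : Set Y'),
      k' ≫ s' = k ≫ s ∧ Dense (Set.range (i ≫ k')) ∧ r ≫ sG = sG' ∧ q ≫ s' = sG' ∧ t' ≫ r = t ∧ t' ≫ q = i ≫ k' ∧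
        IsClosed L ∧ Disjoint (r ⁻¹' B) (q ⁻¹' L) ∧ Disjoint L (Set.range (i ≫ k')) ∧ outer i k' ⊆ L := by
  haveI : QuasiSeparatedSpace S := inferInstance
  haveI : IsLocallyNoetherian Y := LocallyOfFiniteType.isLocallyNoetherian s
  haveI : CompactSpace G := QuasiCompact.compactSpace_of_compactSpace sG
  let A := Scheme.IdealSheafData.vanishingIdeal (X := Y) ⟨closure (outer i k), isClosed_closure⟩
  let J := Scheme.IdealSheafData.vanishingIdeal (X := Y) ⟨(k.opensRange : Set Y)ᶜ, k.opensRange.2.isClosed_compl⟩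
  have hA : (A.support : Set Y) = closure (outer i k) := Scheme.IdealSheafData.coe_support_vanishingIdeal _
  have hJ : (J.support : Set Y) = (k.opensRange : Set Y)ᶜ := Scheme.IdealSheafData.coe_support_vanishingIdeal _
  have hAR : (A.support : Set Y) ∩ k.opensRange = outer i k := by
    rw [hA]
    refine Set.Subset.antisymm (fun y hy => ⟨hy.2, fun h => not_mem_closure_of_mem_range _ (i ≫ k) h hy.1⟩)
      (fun y hy => ⟨subset_closure hy, hy.1⟩)
  obtain ⟨K, hK, H⟩ := exists_shrink p k.opensRange A J (isFiniteTypeIdeal_of_noetherian _)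
    (isFiniteTypeIdeal_of_noetherian _) hJ B hB (by rw [hAR]; exact hBZ)
  let c := BlowUpExist.ChartIdx.blowUpHom K
  have hc : BlowUp.IsBlowUp c K := BlowUpExist.ChartIdx.isBlowUp_blowUpHom
  haveI : IsProper c := BlowUpExist.isProper hK.1 hc
  obtain ⟨L, hL, hLZ, hLA, HL⟩ := H c hc
  obtain ⟨k', hk', hkc, -⟩ := exists_lift k hc hK.2
  let m := pullback.lift t (i ≫ k') (show t ≫ p = (i ≫ k') ≫ c by rw [ht, Category.assoc, hkc])
  haveI : IsProper (pullback.fst p c ≫ sG) := inferInstance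
  haveI : QuasiSeparatedSpace (pullback p c :) := quasiSeparatedSpace_of_quasiSeparated (pullback.fst p c ≫ sG)
  haveI : QuasiCompact m := inferInstance
  haveI := EffCartier.dominant_toImage m
  let r := m.imageι ≫ pullback.fst p c
  let q := m.imageι ≫ pullback.snd p c
  have hrange : ∀ y, y ∈ Set.range (i ≫ k') ↔ c y ∈ Set.range (i ≫ k) ∧ y ∈ Set.range k' := fun y => by
    constructor
    · rintro ⟨x, rfl⟩
      exact ⟨⟨x, by rw [← Scheme.Hom.comp_apply (i ≫ k') c, Category.assoc, hkc]⟩, ⟨i x, rfl⟩⟩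
    · rintro ⟨⟨x, hx⟩, ⟨u, rfl⟩⟩
      rw [← Scheme.Hom.comp_apply, hkc] at hx
      exact ⟨x, congrArg k' (k.isOpenEmbedding.injective hx : i x = u)⟩
  have hd' : Dense (Set.range (i ≫ k')) := by
    refine (dense_blowUp_preimage hc (i ≫ k).opensRange hd).mono fun y hy => (hrange y).2 ⟨hy, ?_⟩
    obtain ⟨x, hx⟩ := hy
    haveI := EffCartier.isIso_blowUp_restrict hc
    refine ⟨i x, AdmOpen4.injective_on_preimage c (EffCartier.cmpl K) ?_ ?_ ?_⟩
    · rw [← Scheme.Hom.comp_apply, hkc]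
      exact fun h => Set.disjoint_left.1 hK.2 h ⟨i x, rfl⟩
    · show c y ∉ (K.support : Set Y)
      rw [← hx]
      exact fun h => Set.disjoint_left.1 hK.2 h ⟨i x, rfl⟩
    · rw [← Scheme.Hom.comp_apply, hkc, ← hx]; rfl
  refine ⟨_, k', c ≫ s, hk', inferInstance, m.image, r ≫ sG, inferInstance, r, q, m.toImage, inferInstance, inferInstance, L,
    by rw [← Category.assoc, hkc], hd', rfl, ?_, ?_, ?_, hL, ?_, ?_, ?_⟩
  · simp only [r, q, Category.assoc, ← hp]
    rw [pullback.condition_assoc]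
  · rw [Scheme.Hom.toImage_imageι_assoc, pullback.lift_fst]
  · rw [Scheme.Hom.toImage_imageι_assoc, pullback.lift_snd]
  · refine HL r q (by simp only [r, q, Category.assoc, pullback.condition])
      (dense_preimage_of_mem m.toImage (q ≫ c) _ fun x => ?_)
    rw [← Scheme.Hom.comp_apply]
    simp only [q, Category.assoc]
    rw [Scheme.Hom.toImage_imageι_assoc, pullback.lift_snd_assoc, Category.assoc, hkc]
    exact ⟨i x, rfl⟩
  · refine Set.disjoint_left.2 fun y hyL hy => ?_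
    have h1 := hLA hyL
    rw [hA] at h1
    exact not_mem_closure_of_mem_range _ (i ≫ k) ((hrange y).1 hy).1 h1
  · rintro y ⟨⟨u, rfl⟩, hy⟩
    refine hLZ ?_
    rw [hAR]
    refine ⟨⟨u, by rw [← Scheme.Hom.comp_apply, hkc]⟩, fun h => hy ((hrange _).2 ⟨h, ⟨u, rfl⟩⟩)⟩

end Groth.Agent.Nagata4
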