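import Groth.Agent.Lib.Nagata4.Models
import Groth.Agent.Lib.Nagata4.Sep
import Groth.Agent.Lib.Nagata4.Contract

/-!
# A union of two compactifiable opens is compactifiable
-/

set_option autoImplicit false
set_option backward.isDefEq.respectTransparency false
universe u

open CategoryTheory CategoryTheory.Limits AlgebraicGeometry TopologicalSpace

namespace Groth.Agent.Nagata4

variable {S U : Scheme.{u}}

theorem surjective_of_dense {G Y O : Scheme.{u}} (p : G ⟶ Y) [IsProper p] (t : O ⟶ G) (v : O ⟶ Y) (h : t ≫ p = v)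
    (hd : Dense (Set.range v)) (y : Y) : ∃ γ, p γ = y := by
  have h1 : Set.range v ⊆ Set.range p := by
    rintro _ ⟨x, rfl⟩
    exact ⟨t x, by rw [← Scheme.Hom.comp_apply, h]⟩
  exact (p.isClosedMap.isClosed_range.closure_eq ▸ (hd.mono h1).closure_eq.ge) (Set.mem_univ y)

/-- The open of a model obtained by removing the image of the other exceptional set. -/
theorem exists_piece {G Y Z P O : Scheme.{u}} (p : G ⟶ Y) [IsProper p] (t : O ⟶ G) (i : O ⟶ P) (k : P ⟶ Y)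
    (ht : t ≫ p = i ≫ k) (hd : Dense (Set.range (i ≫ k))) (o : Z ⟶ Y) (u : O ⟶ Z) (hu : u ≫ o = i ≫ k)
    (L : Set Y) (F : Set G) (hF : IsClosed F) (hdF : Disjoint (p ⁻¹' L) F) (hLo : Disjoint L (Set.range o))
    (hLk : Set.range k \ Set.range (i ≫ k) ⊆ L) (R : Set G) (hR : R = (p ⁻¹' L ∪ F)ᶜ) (hRo : R = p ⁻¹' Set.range o) :
    ∃ A : Y.Opens, (∀ γ, p γ ∈ A ↔ γ ∉ F) ∧ Set.range o ⊆ A ∧ Set.range k ⊆ A := by
  let A : Y.Opens := ⟨(p '' F)ᶜ, (p.isClosedMap _ hF).isOpen_compl⟩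
  have hA : ∀ γ, p γ ∈ A ↔ γ ∉ F := fun γ => by
    refine ⟨fun h hγ => h ⟨γ, hγ, rfl⟩, fun hγ => ?_⟩
    rintro ⟨γ', hγ', e⟩
    by_cases h : γ ∈ p ⁻¹' L
    · exact Set.disjoint_left.1 hdF (show γ' ∈ p ⁻¹' L by show p γ' ∈ L; rw [e]; exact h) hγ'
    · have h1 : γ ∈ R := by rw [hR]; rintro (h' | h'); exacts [h h', hγ h']
      have h2 : γ' ∈ R := by
        rw [hRo] at h1 ⊢
        show p γ' ∈ Set.range o
        rw [e]; exact h1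
      rw [hR] at h2
      exact h2 (Or.inr hγ')
  have ho : Set.range o ⊆ A := fun y hy => by
    obtain ⟨γ, rfl⟩ := surjective_of_dense p t _ ht hd y
    refine (hA γ).2 fun hγ => ?_
    have h1 : γ ∈ R := by rw [hRo]; exact hy
    rw [hR] at h1
    exact h1 (Or.inr hγ)
  refine ⟨A, hA, ho, fun y hy => ?_⟩
  by_cases h : y ∈ Set.range (i ≫ k)
  · obtain ⟨x, rfl⟩ := h
    exact ho ⟨u x, by rw [← hu]; rfl⟩
  · obtain ⟨γ, rfl⟩ := surjective_of_dense p t _ ht hd y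
    exact (hA γ).2 (Set.disjoint_left.1 hdF (hLk ⟨hy, h⟩))

theorem exists_factor {X Y : Scheme.{u}} (f : X ⟶ Y) [IsOpenImmersion f] (A : Y.Opens) (h : Set.range f ⊆ A) :
    ∃ f' : X ⟶ (A : Scheme.{u}), IsOpenImmersion f' ∧ f' ≫ A.ι = f := by
  let f' := IsOpenImmersion.lift A.ι f (by rw [Scheme.Opens.range_ι]; exact h)
  have hf : f' ≫ A.ι = f := IsOpenImmersion.lift_fac _ _ _
  haveI : IsOpenImmersion (f' ≫ A.ι) := by rw [hf]; infer_instance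
  exact ⟨f', IsOpenImmersion.of_comp f' A.ι, hf⟩

theorem exists_compactification_union [IsNoetherian S] (g : U ⟶ S) [IsSeparated g] [LocallyOfFiniteType g] [QuasiCompact g]
    (U₁ U₂ : U.Opens) (hcov : U₁ ⊔ U₂ = ⊤) (hdense : Dense ((U₁ ⊓ U₂ : U.Opens) : Set U))
    (h₁ : ∃ (Y : Scheme.{u}) (j : (U₁ : Scheme.{u}) ⟶ Y) (p : Y ⟶ S), IsOpenImmersion j ∧ QuasiCompact j ∧ IsProper p ∧ j ≫ p = U₁.ι ≫ g)
    (h₂ : ∃ (Y : Scheme.{u}) (j : (U₂ : Scheme.{u}) ⟶ Y) (p : Y ⟶ S), IsOpenImmersion j ∧ QuasiCompact j ∧ IsProper p ∧ j ≫ p = U₂.ι ≫ g) :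
    ∃ (Y : Scheme.{u}) (j : U ⟶ Y) (p : Y ⟶ S), IsOpenImmersion j ∧ QuasiCompact j ∧ IsProper p ∧ j ≫ p = g := by
  haveI : QuasiSeparatedSpace S := inferInstance
  haveI : IsLocallyNoetherian U := LocallyOfFiniteType.isLocallyNoetherian g
  haveI : CompactSpace U := QuasiCompact.compactSpace_of_compactSpace g
  haveI : IsNoetherian U := ⟨⟩
  haveI : CompactSpace ((U₁ ⊓ U₂ : U.Opens) : Scheme.{u}) :=
    isCompact_iff_compactSpace.1 (NoetherianSpace.isCompact ((U₁ ⊓ U₂ : U.Opens) : Set U))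
  obtain ⟨Y₁, Y₂, k₁, k₂, s₁, s₂, hk₁, hk₂, hs₁, hs₂, G, sG, hsG, q₁, q₂, t, ht, htc, L₁, L₂, e₁, e₂, hd₁, hd₂,
    hq₁, hq₂, htq₁, htq₂, hL₁, hL₂, hL, hLO₁, hLO₂, hLZ₁, hLZ₂⟩ := exists_separated g U₁ U₂ hdense h₁ h₂
  let i₁ := U.homOfLE (inf_le_left : U₁ ⊓ U₂ ≤ U₁)
  let i₂ := U.homOfLE (inf_le_right : U₁ ⊓ U₂ ≤ U₂)
  obtain ⟨X₁, X₂, Z, l₁, l₂, r₁, r₂, o₁, o₂, u, hl₁, hl₂, hr₁, hr₂, ho₁, ho₂, G', sG', hsG', p₁, p₂, t', M₁, M₂, R, e,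
    el₁, el₂, hp₁, hp₂, hoS, hdl₁, hdl₂, htp₁, htp₂, huo₁, huo₂, hM₁, hM₂, hM, hMo₁, hMo₂, hMZ₁, hMZ₂, hR, hRo₁, hRo₂, he₁, he₂⟩ :=
    exists_models i₁ i₂ k₁ k₂ s₁ s₂ hd₁ hd₂ sG q₁ q₂ hq₁ hq₂ t htq₁ htq₂ L₁ L₂ hL₁ hL₂ hL hLO₁ hLO₂ hLZ₁ hLZ₂
  haveI : IsProper p₁ := by
    haveI : IsProper (p₁ ≫ r₁) := by rw [hp₁]; infer_instance
    exact IsProper.of_comp p₁ r₁
  haveI : IsProper p₂ := by
    haveI : IsProper (p₂ ≫ r₂) := by rw [hp₂]; infer_instance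
    exact IsProper.of_comp p₂ r₂
  obtain ⟨A₁, hA₁, hoA₁, hkA₁⟩ := exists_piece p₁ t' i₁ l₁ htp₁ hdl₁ o₁ u huo₁ M₁ _ (hM₂.preimage p₂.continuous) hM hMo₁
    hMZ₁ _ hR hRo₁
  obtain ⟨A₂, hA₂, hoA₂, hkA₂⟩ := exists_piece p₂ t' i₂ l₂ htp₂ hdl₂ o₂ u huo₂ M₂ _ (hM₁.preimage p₁.continuous) hM.symm hMo₂
    hMZ₂ _ (hR.trans (by rw [Set.union_comm])) hRo₂
  obtain ⟨o₁', ho₁', eo₁⟩ := exists_factor o₁ A₁ hoA₁
  obtain ⟨o₂', ho₂', eo₂⟩ := exists_factor o₂ A₂ hoA₂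
  obtain ⟨l₁', hl₁', ek₁⟩ := exists_factor l₁ A₁ hkA₁
  obtain ⟨l₂', hl₂', ek₂⟩ := exists_factor l₂ A₂ hkA₂
  have hle : p₁ ⁻¹ᵁ A₁ ⊓ p₂ ⁻¹ᵁ A₂ ≤ R := fun γ hγ => by
    show γ ∈ (R : Set G')
    rw [hR]
    rintro (h | h)
    exacts [(hA₂ γ).1 hγ.2 h, (hA₁ γ).1 hγ.1 h]
  have he : Function.Surjective (G'.homOfLE hle ≫ e) := fun z => by
    obtain ⟨γ, hγ⟩ := surjective_of_dense p₁ t' _ htp₁ hdl₁ (o₁ z)
    have hγR : γ ∈ (R : Set G') := by rw [hRo₁]; exact ⟨z, hγ.symm⟩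
    have hγ' : γ ∈ p₁ ⁻¹ᵁ A₁ ⊓ p₂ ⁻¹ᵁ A₂ := by
      rw [hR] at hγR
      exact ⟨(hA₁ γ).2 fun h => hγR (Or.inr h), (hA₂ γ).2 fun h => hγR (Or.inl h)⟩
    refine ⟨⟨γ, hγ'⟩, o₁.isOpenEmbedding.injective ?_⟩
    rw [← Scheme.Hom.comp_apply, Category.assoc, he₁, Scheme.homOfLE_ι_assoc]
    exact hγ
  have hS : o₁' ≫ A₁.ι ≫ r₁ = o₂' ≫ A₂.ι ≫ r₂ := by rw [reassoc_of% eo₁, reassoc_of% eo₂, hoS]
  haveI : IsProper (pushout.desc (A₁.ι ≫ r₁) (A₂.ι ≫ r₂) hS) :=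
    isProper_contract r₁ r₂ sG' p₁ p₂ hp₁ hp₂ A₁ A₂ o₁' o₂' hS (G'.homOfLE hle ≫ e) he
      (by rw [Category.assoc, eo₁, he₁, Scheme.homOfLE_ι_assoc]) (by rw [Category.assoc, eo₂, he₂, Scheme.homOfLE_ι_assoc])
      (fun γ => by
        by_cases h : γ ∈ p₂ ⁻¹' M₂
        · exact Or.inr ((hA₂ γ).2 fun h' => Set.disjoint_left.1 hM h' h)
        · exact Or.inl ((hA₁ γ).2 h))
      (fun y _ => surjective_of_dense p₁ t' _ htp₁ hdl₁ y) (fun y _ => surjective_of_dense p₂ t' _ htp₂ hdl₂ y)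
  let W := pushout o₁' o₂'
  let q := pushout.desc (A₁.ι ≫ r₁) (A₂.ι ≫ r₂) hS
  have hkey : i₁ ≫ l₁' ≫ pushout.inl o₁' o₂' = i₂ ≫ l₂' ≫ pushout.inr o₁' o₂' := by
    have a₁ : i₁ ≫ l₁' = u ≫ o₁' := by rw [← cancel_mono A₁.ι, Category.assoc, Category.assoc, ek₁, eo₁, huo₁]
    have a₂ : i₂ ≫ l₂' = u ≫ o₂' := by rw [← cancel_mono A₂.ι, Category.assoc, Category.assoc, ek₂, eo₂, huo₂]
    rw [← Category.assoc, a₁, ← Category.assoc, a₂, Category.assoc, Category.assoc, pushout.condition]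
  obtain ⟨j, hj⟩ := exists_glue_opens (T := W) (fun b : ULift.{u} Bool => cond b.down U₁ U₂)
    (top_le_iff.1 fun x _ => Opens.mem_iSup.2 ((hcov.ge (show x ∈ ⊤ from trivial)).elim (fun h => ⟨⟨true⟩, h⟩) (fun h => ⟨⟨false⟩, h⟩)))
    (fun b => match b with
      | ⟨true⟩ => l₁' ≫ pushout.inl o₁' o₂'
      | ⟨false⟩ => l₂' ≫ pushout.inr o₁' o₂') (by
    rintro ⟨_ | _⟩ ⟨_ | _⟩ x hx hy
    · exact ⟨_, hx, le_rfl, le_rfl, rfl⟩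
    · exact ⟨U₁ ⊓ U₂, ⟨hy, hx⟩, inf_le_right, inf_le_left, hkey.symm⟩
    · exact ⟨U₁ ⊓ U₂, ⟨hx, hy⟩, inf_le_left, inf_le_right, hkey⟩
    · exact ⟨_, hx, le_rfl, le_rfl, rfl⟩)
  have hj₁ : U₁.ι ≫ j = l₁' ≫ pushout.inl o₁' o₂' := hj ⟨true⟩
  have hj₂ : U₂.ι ≫ j = l₂' ≫ pushout.inr o₁' o₂' := hj ⟨false⟩
  haveI : IsOpenImmersion (U₁.ι ≫ j) := by rw [hj₁]; infer_instance
  haveI : IsOpenImmersion (U₂.ι ≫ j) := by rw [hj₂]; infer_instance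
  have hinj : Function.Injective j := by
    have key : ∀ (x : U₁) (y : U₂), j x.1 = j y.1 → x.1 ∈ U₂ := fun x y h => by
      have h' : pushout.inl o₁' o₂' (l₁' x) = pushout.inr o₁' o₂' (l₂' y) := by
        rw [← Scheme.Hom.comp_apply, ← hj₁, ← Scheme.Hom.comp_apply l₂', ← hj₂]
        exact h
      obtain ⟨z, hz, -⟩ := LimH13.exists_of_inl_eq_inr o₁' o₂' h'
      have hz' : o₁ z = l₁ x := by rw [← eo₁, ← ek₁, Scheme.Hom.comp_apply, Scheme.Hom.comp_apply, hz]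
      obtain ⟨w, hw⟩ : l₁ x ∈ Set.range (i₁ ≫ l₁) := by
        by_contra hc
        exact Set.disjoint_left.1 hMo₁ (hMZ₁ ⟨⟨x, rfl⟩, hc⟩) ⟨z, hz'⟩
      have hwx : i₁ w = x := l₁.isOpenEmbedding.injective hw
      have : x ∈ Set.range i₁ := ⟨w, hwx⟩
      rw [range_homOfLE] at this
      exact this.2
    have inj₂ : ∀ {x y : U} (hx : x ∈ U₂) (hy : y ∈ U₂), j x = j y → x = y := fun {x y} hx hy h =>
      congrArg Subtype.val ((U₂.ι ≫ j).isOpenEmbedding.injective (a₁ := ⟨x, hx⟩) (a₂ := ⟨y, hy⟩) h)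
    intro x y h
    rcases hcov.ge (show x ∈ ⊤ from trivial) with hx | hx <;> rcases hcov.ge (show y ∈ ⊤ from trivial) with hy | hy
    · exact congrArg Subtype.val ((U₁.ι ≫ j).isOpenEmbedding.injective (a₁ := ⟨x, hx⟩) (a₂ := ⟨y, hy⟩) h)
    · exact inj₂ (key ⟨x, hx⟩ ⟨y, hy⟩ h) hy h
    · exact inj₂ hx (key ⟨y, hy⟩ ⟨x, hx⟩ h.symm) h
    · exact inj₂ hx hy h
  haveI : IsOpenImmersion j := IsOpenImmersion.of_forall_source_exists j hinj fun x => by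
    rcases hcov.ge (show x ∈ ⊤ from trivial) with hx | hx
    · exact ⟨_, U₁.ι, inferInstance, by rw [Scheme.Opens.opensRange_ι]; exact hx, inferInstance⟩
    · exact ⟨_, U₂.ι, inferInstance, by rw [Scheme.Opens.opensRange_ι]; exact hx, inferInstance⟩
  haveI : IsLocallyNoetherian W := LocallyOfFiniteType.isLocallyNoetherian q
  refine ⟨W, j, q, inferInstance, inferInstance, inferInstance, Scheme.hom_ext_of_forall _ _ fun x => ?_⟩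
  rcases hcov.ge (show x ∈ ⊤ from trivial) with hx | hx
  · refine ⟨U₁, hx, ?_⟩
    rw [reassoc_of% hj₁, pushout.inl_desc, reassoc_of% ek₁, el₁, e₁]
  · refine ⟨U₂, hx, ?_⟩
    rw [reassoc_of% hj₂, pushout.inr_desc, reassoc_of% ek₂, el₂, e₂]

end Groth.Agent.Nagata4
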